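import Cfsg.Agent.H198.FC.DefsB
import Cfsg.Agent.H466.FC.S00
import Mathlib
import Cfsg.Agent.H277.FC.SN
import Cfsg.Agent.H786.FC.Parts
import Cfsg.Agent.H886.FC.ClassB
import Cfsg.Agent.H563.FC.Spe
import Cfsg.Agent.H710.FC.COdd
import Cfsg.Agent.H412.FC.BBridge
import Cfsg.Agent.H563.FC.Cnt
set_option linter.all false

-- part: H510/BF/Typ
section
/-!
# S5764, StmtBC3: semilinear types

`F` a finite extension field of `K` of degree `e` acting on `V`; `q = |K|`; a `K`-linear map `X` has type `i` if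
`X (a v) = a^(q^i) X v` for `a ∈ F`.
-/

set_option autoImplicit false

namespace Cfsg.Agent.H510.BF

open Cfsg.Agent.H198.FC

universe u v w

section

variable {K : Type u} [Field K] {F : Type w} [Field F] [Algebra K F]
  {V : Type v} [AddCommGroup V] [Module K V] [Module F V] [IsScalarTower K F V]

variable (K V) in
/-- multiplication by `a ∈ F` as an element of `R` -/
def mu : F →ₐ[K] R K V := Algebra.lsmul K K V

@[simp] theorem mu_apply (a : F) (v : V) : mu K V a v = a • v := rfl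

theorem mu_inj [Nontrivial V] {a b : F} (h : mu K V a = mu K V b) : a = b :=
  (mu K V : F →ₐ[K] R K V).toRingHom.injective h

variable (F) in
/-- `X` has type `i` -/
def Ty (i : ℕ) (X : R K V) : Prop := ∀ (a : F) (v : V), X (a • v) = a ^ (Nat.card K ^ i) • X v

theorem Ty.add {i : ℕ} {X Y : R K V} (hX : Ty F i X) (hY : Ty F i Y) : Ty F i (X + Y) := by
  intro a v
  rw [LinearMap.add_apply, LinearMap.add_apply, hX, hY, smul_add]

theorem Ty.sub {i : ℕ} {X Y : R K V} (hX : Ty F i X) (hY : Ty F i Y) : Ty F i (X - Y) := by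
  intro a v
  rw [LinearMap.sub_apply, LinearMap.sub_apply, hX, hY, smul_sub]

theorem ty_zero (i : ℕ) : Ty F i (0 : R K V) := by
  intro a v
  rw [LinearMap.zero_apply, LinearMap.zero_apply, smul_zero]

theorem ty_one : Ty F 0 (1 : R K V) := by
  intro a v
  rw [pow_zero, pow_one, Module.End.one_apply, Module.End.one_apply]

theorem Ty.mul {i j : ℕ} {X Y : R K V} (hX : Ty F i X) (hY : Ty F j Y) : Ty F (i + j) (X * Y) := by
  intro a v
  rw [Module.End.mul_apply, Module.End.mul_apply, hY, hX, ← pow_mul, ← pow_add, add_comm]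

theorem ty_iff {i : ℕ} {X : R K V} : Ty F i X ↔ ∀ a : F, X * mu K V a = mu K V a ^ (Nat.card K ^ i) * X := by
  constructor
  · intro h a
    ext v
    rw [← map_pow]
    exact h a v
  · intro h a v
    have h1 := LinearMap.congr_fun (h a) v
    rw [← map_pow] at h1
    exact h1

section fin

variable [Finite K] [Finite F]

theorem pow_card (a : F) (n : ℕ) : a ^ (Nat.card K ^ (n % Module.finrank K F)) = a ^ (Nat.card K ^ n) := by
  classical
  letI := Fintype.ofFinite K
  letI := Fintype.ofFinite F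
  set e := Module.finrank K F with he
  have hc : Nat.card K ^ e = Fintype.card F := by
    rw [Nat.card_eq_fintype_card, Module.card_eq_pow_finrank (K := K) (V := F)]
  have h1 : ∀ k : ℕ, ∀ b : F, b ^ ((Nat.card K ^ e) ^ k) = b := by
    intro k
    induction k with
    | zero => intro b; rw [pow_zero, pow_one]
    | succ k ih =>
      intro b
      rw [pow_succ, pow_mul, ih, hc, FiniteField.pow_card]
  conv_rhs => rw [← Nat.mod_add_div n e, pow_add, pow_mul _ e, mul_comm, pow_mul, h1]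

theorem ty_mod {n : ℕ} {X : R K V} (h : Ty F n X) : Ty F (n % Module.finrank K F) X := by
  intro a v
  rw [pow_card, h]

/-- independence of the types -/
theorem ty_indep {e : ℕ} [NeZero e] (he : Module.finrank K F = e) (X : ZMod e → R K V) (hX : ∀ i, Ty F i.val (X i))
    (h0 : ∑ i, X i = 0) (i : ZMod e) : X i = 0 := by
  classical
  letI := Fintype.ofFinite K
  letI := Fintype.ofFinite F
  have hcK : Nat.card K = Fintype.card K := Nat.card_eq_fintype_card
  have hinj : Function.Injective (fun i : ZMod e => (powMonoidHom (Nat.card K ^ i.val) : F →* F)) := by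
    intro i j hij
    have h1 := (FiniteField.bijective_frobeniusAlgHom_pow K F).1
      (a₁ := ⟨i.val, by rw [he]; exact ZMod.val_lt i⟩) (a₂ := ⟨j.val, by rw [he]; exact ZMod.val_lt j⟩) (by
        apply AlgHom.ext
        intro a
        have h2 : ∀ n : ℕ, (FiniteField.frobeniusAlgHom K F ^ n) a = a ^ (Nat.card K ^ n) := by
          intro n
          rw [AlgHom.coe_pow, FiniteField.coe_frobeniusAlgHom, pow_iterate, hcK]
        change (FiniteField.frobeniusAlgHom K F ^ i.val) a = (FiniteField.frobeniusAlgHom K F ^ j.val) a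
        rw [h2, h2]
        exact DFunLike.congr_fun hij a)
    exact ZMod.val_injective e (congrArg Fin.val h1)
  have hli := (linearIndependent_monoidHom F F).comp _ hinj
  rw [Fintype.linearIndependent_iff] at hli
  ext v
  rw [LinearMap.zero_apply]
  by_contra hne
  obtain ⟨φ, hφ⟩ : ∃ φ : V →ₗ[F] F, φ (X i v) ≠ 0 := by
    by_contra hcon
    push Not at hcon
    exact hne ((Module.forall_dual_apply_eq_zero_iff F _).1 hcon)
  refine hφ (hli (fun j => φ (X j v)) ?_ i)
  funext a
  rw [Finset.sum_apply]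
  have h1 : (∑ j, X j) (a • v) = 0 := by rw [h0, LinearMap.zero_apply]
  rw [LinearMap.sum_apply] at h1
  have h2 := congrArg φ h1
  rw [map_sum, map_zero] at h2
  rw [Pi.zero_apply, ← h2]
  refine Finset.sum_congr rfl fun j _ => ?_
  rw [hX j a v, map_smul, Pi.smul_apply, smul_eq_mul, smul_eq_mul, mul_comm]
  rfl

/-- an automorphism of `R` that normalizes `F` preserves the types -/
theorem ty_map [Nontrivial V] {f : Equiv.Perm (R K V)} (hf : f ∈ RP K V)
    (hE : ∀ a : F, ∃ a' : F, f (mu K V a) = mu K V a') {i : ℕ} {X : R K V} (hX : Ty F i X) : Ty F i (f X) := by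
  choose φ hφ using hE
  have hinj : Function.Injective φ := by
    intro a b hab
    apply mu_inj (K := K) (V := V)
    apply f.injective
    rw [hφ, hφ, hab]
  have hsurj := Finite.surjective_of_injective hinj
  have h1 : f 1 = 1 := by
    have h1 := hf.2 1 (f.symm 1)
    rw [one_mul, Equiv.apply_symm_apply, mul_one] at h1
    exact h1.symm
  have hpow : ∀ (Y : R K V) (n : ℕ), f (Y ^ n) = f Y ^ n := by
    intro Y n
    induction n with
    | zero => rw [pow_zero, pow_zero, h1]
    | succ n ih => rw [pow_succ, pow_succ, hf.2, ih]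
  rw [ty_iff] at hX ⊢
  intro a
  obtain ⟨b, rfl⟩ := hsurj a
  rw [← hφ, ← hf.2, hX, hf.2, hpow]

/-- an invertible element of `R` that normalizes `F` has a type -/
theorem exists_ty [Nontrivial V] (m : (R K V)ˣ) (hm : ∀ a : F, ∃ a' : F, cj K V m (mu K V a) = mu K V a') :
    ∃ j < Module.finrank K F, Ty F j (m : R K V) := by
  classical
  letI := Fintype.ofFinite K
  letI := Fintype.ofFinite F
  have hcK : Nat.card K = Fintype.card K := Nat.card_eq_fintype_card
  choose φ hφ using hm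
  have hcj := cj_mem_RP m
  have h1 : cj K V m 1 = 1 := by
    rw [cj_apply, mul_one, Units.mul_inv]
  let Φ : F →ₐ[K] F :=
    { toFun := φ
      map_one' := mu_inj (K := K) (V := V) (by rw [← hφ, map_one, h1])
      map_mul' := fun a b => mu_inj (K := K) (V := V) (by
        rw [← hφ, map_mul, hcj.2, hφ, hφ, map_mul])
      map_zero' := mu_inj (K := K) (V := V) (by
        rw [← hφ, map_zero, cj_apply, mul_zero, zero_mul])
      map_add' := fun a b => mu_inj (K := K) (V := V) (by
        rw [← hφ, map_add, hcj.1, hφ, hφ, map_add])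
      commutes' := fun a => mu_inj (K := K) (V := V) (by
        rw [← hφ, AlgHom.commutes, cj_apply, ← Algebra.commutes, mul_assoc, Units.mul_inv, mul_one]) }
  obtain ⟨j, hj⟩ := (FiniteField.bijective_frobeniusAlgHom_pow K F).2 Φ
  refine ⟨j.1, j.2, ?_⟩
  rw [ty_iff]
  intro a
  have h2 : φ a = a ^ (Nat.card K ^ j.1) := by
    have h3 := DFunLike.congr_fun hj a
    change (FiniteField.frobeniusAlgHom K F ^ j.1) a = φ a at h3
    rw [← h3, AlgHom.coe_pow, FiniteField.coe_frobeniusAlgHom, pow_iterate, hcK]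
  rw [← map_pow, ← h2, ← hφ, cj_apply, mul_assoc, Units.inv_mul, mul_one]

/-- **Lemma T**: if `x = ∑ Xᵢ` with `X₀ = 1` and `Xᵢ` singular of type `i` for `i ≠ 0`, then `f` and `f^x` both
normalize `F` only if `f` fixes all `Xᵢ`. -/
theorem fix_of_types [Nontrivial V] {e : ℕ} [NeZero e] (he : Module.finrank K F = e) {f : Equiv.Perm (R K V)}
    (hf : f ∈ RP K V) (hE : ∀ a : F, ∃ a' : F, f (mu K V a) = mu K V a') (x : (R K V)ˣ)
    (hE' : ∀ a : F, ∃ a' : F, (cj K V x * f * (cj K V x)⁻¹) (mu K V a) = mu K V a')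
    (X : ZMod e → R K V) (hX : ∀ i, Ty F i.val (X i)) (hX0 : X 0 = 1) (hXu : ∀ i, i ≠ 0 → ¬ IsUnit (X i))
    (hx : (x : R K V) = ∑ i, X i) (i : ZMod e) : f (X i) = X i := by
  classical
  have h1 : f 1 = 1 := by
    have h1 := hf.2 1 (f.symm 1)
    rw [one_mul, Equiv.apply_symm_apply, mul_one] at h1
    exact h1.symm
  -- the unit `f x`
  let y : (R K V)ˣ := ⟨f x, f (x⁻¹ : (R K V)ˣ), by rw [← hf.2, Units.mul_inv, h1], by rw [← hf.2, Units.inv_mul, h1]⟩
  have hy : (y : R K V) = f x := rfl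
  set m : (R K V)ˣ := x * y⁻¹ with hm
  have hxm : (x : R K V) = m * f x := by
    rw [hm, Units.val_mul, mul_assoc, ← hy, Units.inv_mul, mul_one]
  -- `m` normalizes `F`
  have key : ∀ Z, (cj K V x * f * (cj K V x)⁻¹) Z = cj K V m (f Z) := by
    intro Z
    have h2 : (cj K V x)⁻¹ Z = (x⁻¹ : (R K V)ˣ) * Z * x := by
      rw [← map_inv, cj_apply, inv_inv]
    rw [Equiv.Perm.mul_apply, Equiv.Perm.mul_apply, h2, cj_apply, cj_apply, hf.2, hf.2, hm]
    change (x : R K V) * ((y⁻¹ : (R K V)ˣ) * f Z * y) * (x⁻¹ : (R K V)ˣ) = _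
    rw [mul_inv_rev, inv_inv, Units.val_mul, Units.val_mul]
    simp only [mul_assoc]
  have hmF : ∀ a : F, ∃ a' : F, cj K V m (mu K V a) = mu K V a' := by
    choose φ hφ using hE
    have hinj : Function.Injective φ := by
      intro a b hab
      apply mu_inj (K := K) (V := V)
      apply f.injective
      rw [hφ, hφ, hab]
    have hsurj := Finite.surjective_of_injective hinj
    intro a
    obtain ⟨b, rfl⟩ := hsurj a
    obtain ⟨c, hc⟩ := hE' b
    refine ⟨c, ?_⟩
    rw [← hc, key, hφ]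
  obtain ⟨j, hj, hjm⟩ := exists_ty m hmF
  have hjv : ((j : ℕ) : ZMod e).val = j := ZMod.val_natCast_of_lt (by rw [← he]; exact hj)
  -- compare the types in `x = m * f x`
  have hfsum : f (∑ i, X i) = ∑ i, f (X i) := by
    let f' : R K V →+ R K V := AddMonoidHom.mk' f hf.1
    exact map_sum f' X Finset.univ
  have hYX : ∀ k, X k - m * f (X (k - (j : ZMod e))) = 0 := by
    apply ty_indep he (F := F)
    · intro k
      refine (hX k).sub ?_
      have h2 := hjm.mul (ty_map hf hE (hX (k - (j : ZMod e))))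
      have h3 := ty_mod h2
      rw [he] at h3
      have h4 : (j + (k - (j : ZMod e)).val) % e = k.val := by
        have h5 := ZMod.val_add (j : ZMod e) (k - (j : ZMod e))
        rw [hjv, add_sub_cancel] at h5
        exact h5.symm
      rwa [h4] at h3
    · rw [Finset.sum_sub_distrib]
      have h2 : ∑ k : ZMod e, (m : R K V) * f (X (k - (j : ZMod e))) = ∑ k, (m : R K V) * f (X k) :=
        (Equiv.subRight (j : ZMod e)).sum_comp fun k => (m : R K V) * f (X k)
      rw [h2, ← Finset.mul_sum, ← hfsum, ← hx, ← hxm, sub_self]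
  have hj0 : (j : ZMod e) = 0 := by
    by_contra hne
    apply hXu _ hne
    have h2 := sub_eq_zero.1 (hYX (j : ZMod e))
    rw [sub_self, hX0, h1, mul_one] at h2
    rw [h2]
    exact m.isUnit
  have hm1 : (m : R K V) = 1 := by
    have h2 := sub_eq_zero.1 (hYX 0)
    rw [hj0, sub_zero, hX0, h1, mul_one] at h2
    exact h2.symm
  have h2 := sub_eq_zero.1 (hYX i)
  rw [hj0, sub_zero, hm1, one_mul] at h2
  exact h2.symm

end fin

end

end Cfsg.Agent.H510.BF
end

-- part: H510/BF/Skew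
section
/-!
# S5764, StmtBC3: the isometries `1 + z`
-/

set_option autoImplicit false

namespace Cfsg.Agent.H510.BF

open Cfsg.Agent.H198.FC

universe u v w

section

variable {K : Type u} [Field K] {F : Type w} [Field F] [Algebra K F]
  {V : Type v} [AddCommGroup V] [Module K V] [Module F V] [IsScalarTower K F V]

/-- the data: a skew `ν`-hermitian form over `F` (alternating for `ν = 1`) with `b = c Tr B` -/
structure SkData (K : Type u) [Field K] (F : Type w) [Field F] [Algebra K F] {V : Type v} [AddCommGroup V] [Module K V]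
    [Module F V] (b : Cl K V) (ν : F ≃+* F) (B : V → V → F) (c : K) : Prop where
  invol : ∀ a, ν (ν a) = a
  ext : ∀ a : K, ν (algebraMap K F a) = algebraMap K F (b.τ a)
  add_left : ∀ v v' w, B (v + v') w = B v w + B v' w
  add_right : ∀ v w w', B v (w + w') = B v w + B v w'
  smul_left : ∀ (a : F) v w, B (a • v) w = a * B v w
  smul_right : ∀ (a : F) v w, B v (a • w) = ν a * B v w
  skew : ∀ v w, B w v = -ν (B v w)
  nondeg : ∀ v, (∀ w, B v w = 0) → v = 0
  alt : (∀ a, ν a = a) → ∀ v, B v v = 0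
  c_ne : c ≠ 0
  tr : ∀ v w, b.B v w = c * Algebra.trace K F (B v w)

section fin

variable [Finite K] [Finite F]

/-- `a ↦ a ^ q`, iterated `i` times -/
noncomputable def fr (K : Type u) [Field K] [Finite K] (F : Type w) [Field F] [Algebra K F] [Finite F] (i : ℕ) :
    F ≃ₐ[K] F :=
  haveI := Fintype.ofFinite K
  FiniteField.frobeniusAlgEquivOfAlgebraic K F ^ i

theorem fr_apply (i : ℕ) (a : F) : fr K F i a = a ^ (Nat.card K ^ i) := by
  letI := Fintype.ofFinite K
  change (FiniteField.frobeniusAlgEquivOfAlgebraic K F ^ i) a = _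
  rw [AlgEquiv.coe_pow, FiniteField.coe_frobeniusAlgEquivOfAlgebraic, pow_iterate, Nat.card_eq_fintype_card]

theorem fr_ring (ν : F ≃+* F) (i : ℕ) (a : F) : ν (fr K F i a) = fr K F i (ν a) := by
  rw [fr_apply, fr_apply, map_pow]

theorem fr_fr {i j : ℕ} (h : (i + j) % Module.finrank K F = 0) (a : F) : fr K F i (fr K F j a) = a := by
  rw [fr_apply, fr_apply, ← pow_mul, ← pow_add, add_comm j i, ← pow_card (K := K) (F := F), h, pow_zero, pow_one]

/-- the operator `ι ∘ M ∘ τ^i ∘ φ` -/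
noncomputable def op {m : ℕ} (i : ℕ) (ι : (Fin m → F) →ₗ[F] V) (M : Matrix (Fin m) (Fin m) F)
    (φ : V →ₗ[F] (Fin m → F)) : R K V where
  toFun v := ι (M.mulVec fun k => fr K F i (φ v k))
  map_add' v w := by
    rw [← map_add, ← Matrix.mulVec_add]
    congr 2
    funext k
    rw [map_add, Pi.add_apply, Pi.add_apply, map_add]
  map_smul' a v := by
    have h1 : (fun k => fr K F i (φ (a • v) k)) = (algebraMap K F a) • fun k => fr K F i (φ v k) := by
      funext k
      have h2 : φ (a • v) k = algebraMap K F a * φ v k := by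
        rw [← algebraMap_smul F a v, map_smul, Pi.smul_apply, smul_eq_mul]
      rw [h2, map_mul, AlgEquiv.commutes, Pi.smul_apply, smul_eq_mul]
    rw [h1, Matrix.mulVec_smul, map_smul, algebraMap_smul, RingHom.id_apply]

theorem op_apply {m : ℕ} (i : ℕ) (ι : (Fin m → F) →ₗ[F] V) (M : Matrix (Fin m) (Fin m) F)
    (φ : V →ₗ[F] (Fin m → F)) (v : V) : (op i ι M φ : R K V) v = ι (M.mulVec fun k => fr K F i (φ v k)) := rfl

theorem op_ty {m : ℕ} (i : ℕ) (ι : (Fin m → F) →ₗ[F] V) (M : Matrix (Fin m) (Fin m) F)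
    (φ : V →ₗ[F] (Fin m → F)) : Ty F i (op i ι M φ : R K V) := by
  intro a v
  rw [op_apply, op_apply, ← map_smul, ← Matrix.mulVec_smul]
  congr 2
  funext k
  rw [map_smul, Pi.smul_apply, Pi.smul_apply, smul_eq_mul, smul_eq_mul, map_mul, fr_apply i a]

theorem op_mul {m : ℕ} (i j : ℕ) (ι : (Fin m → F) →ₗ[F] V) (M M' : Matrix (Fin m) (Fin m) F)
    (φ : V →ₗ[F] (Fin m → F)) (h : ∀ x, φ (ι x) = 0) : (op i ι M φ * op j ι M' φ : R K V) = 0 := by
  ext v
  rw [Module.End.mul_apply, op_apply, op_apply, h]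
  have h1 : (fun k => fr K F i ((0 : Fin m → F) k)) = 0 := by
    funext k
    rw [Pi.zero_apply, map_zero]
  rw [h1, Matrix.mulVec_zero, map_zero, LinearMap.zero_apply]

variable {b : Cl K V} {ν : F ≃+* F} {B : V → V → F} {c : K}

omit [IsScalarTower K F V] [Finite K] in
theorem SkData.sum_left (hB : SkData K F b ν B c) {m : ℕ} {ι : (Fin m → F) →ₗ[F] V} {φ : V →ₗ[F] (Fin m → F)}
    (h : ∀ v x, B v (ι x) = ∑ k, φ v k * ν (x k)) (w : V) (x : Fin m → F) :
    B (ι x) w = -∑ k, ν (φ w k) * x k := by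
  rw [hB.skew, h, map_sum]
  congr 1
  refine Finset.sum_congr rfl fun k _ => ?_
  rw [map_mul, hB.invol]

theorem trace_fr (i : ℕ) (a : F) : Algebra.trace K F (fr K F i a) = Algebra.trace K F a :=
  Algebra.trace_eq_of_algEquiv (fr K F i) a

theorem skew_op (hB : SkData K F b ν B c) {m : ℕ} {ι : (Fin m → F) →ₗ[F] V} {φ : V →ₗ[F] (Fin m → F)}
    (h : ∀ v x, B v (ι x) = ∑ k, φ v k * ν (x k)) {i j : ℕ} (hij : (i + j) % Module.finrank K F = 0)
    (M M' : Matrix (Fin m) (Fin m) F) (hM : ∀ k l, M l k = fr K F i (ν (M' k l))) (v w : V) :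
    b.B ((op i ι M φ : R K V) v) w = -b.B v ((op j ι M' φ : R K V) w) := by
  rw [hB.tr, hB.tr, op_apply, op_apply, hB.sum_left h, h, ← mul_neg, ← map_neg (Algebra.trace K F),
    ← trace_fr (K := K) i (-∑ k, φ v k * ν ((M'.mulVec fun k => fr K F j (φ w k)) k))]
  congr 2
  rw [map_neg, map_sum, neg_inj]
  have h1 : ∀ k, (M.mulVec fun k => fr K F i (φ v k)) k = ∑ l, M k l * fr K F i (φ v l) := fun k => rfl
  have h2 : ∀ k, (M'.mulVec fun k => fr K F j (φ w k)) k = ∑ l, M' k l * fr K F j (φ w l) := fun k => rfl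
  simp_rw [h1, h2, map_sum, map_mul, map_sum, map_mul, Finset.mul_sum]
  rw [Finset.sum_comm]
  refine Finset.sum_congr rfl fun k _ => Finset.sum_congr rfl fun l _ => ?_
  rw [hM, fr_ring, fr_fr hij]
  ring

/-- `1 + z` is an isometry -/
theorem isom_one_add {z : R K V} (hz : z * z = 0) (hs : ∀ v w, b.B (z v) w = -b.B v (z w)) (v w : V) :
    b.B ((1 + z) v) ((1 + z) w) = b.B v w := by
  have h1 : z (z w) = 0 := by
    rw [← Module.End.mul_apply, hz, LinearMap.zero_apply]
  have h0 : ∀ v, b.B v 0 = 0 := by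
    intro v
    have h := b.add_right v 0 0
    rw [add_zero] at h
    exact left_eq_add.1 h
  rw [LinearMap.add_apply, LinearMap.add_apply, Module.End.one_apply, Module.End.one_apply, b.add_left, b.add_right,
    b.add_right, hs v w, hs v (z w), h1, h0]
  ring

/-- **the element attached to `ι, M, φ`** -/
theorem exists_elt [Module.Finite K V] [Nontrivial V] (hB : SkData K F b ν B c)
    (he : (Module.finrank K F).Prime) {m : ℕ} {ι : (Fin m → F) →ₗ[F] V} {φ : V →ₗ[F] (Fin m → F)}
    (h : ∀ v x, B v (ι x) = ∑ k, φ v k * ν (x k)) (hφι : ∀ x, φ (ι x) = 0)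
    (M : Matrix (Fin m) (Fin m) F)
    (hM : Module.finrank K F = 2 → ∀ k l, M l k = fr K F 1 (ν (M k l))) :
    ∃ x : (R K V)ˣ, LinearMap.det (x : R K V) = 1 ∧ b.Isom x ∧
      ∀ f ∈ RP K V, (∀ a : F, ∃ a' : F, f (mu K V a) = mu K V a') →
        (∀ a : F, ∃ a' : F, (cj K V x * f * (cj K V x)⁻¹) (mu K V a) = mu K V a') →
        f (op 1 ι M φ) = op 1 ι M φ := by
  obtain ⟨p, hp⟩ := CharP.exists K
  haveI : Fact p.Prime := ⟨CharP.char_is_prime K p⟩
  set e := Module.finrank K F with hedef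
  haveI : NeZero e := ⟨he.ne_zero⟩
  haveI : Fact (1 < e) := ⟨he.one_lt⟩
  have hsing : ∀ z : R K V, z * z = 0 → ¬ IsUnit z := by
    intro z hz hu
    obtain ⟨y, hy⟩ := hu
    have h1 : (y * y : (R K V)ˣ) = (0 : R K V) := by rw [Units.val_mul, hy]; exact hz
    exact (y * y).ne_zero h1
  by_cases h2 : e = 2
  · -- `e = 2`
    set z : R K V := op 1 ι M φ with hz
    have hzz : z * z = 0 := op_mul 1 1 ι M M φ hφι
    have hskew : ∀ v w, b.B (z v) w = -b.B v (z w) := by
      intro v w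
      exact skew_op hB h (i := 1) (j := 1) (by rw [← hedef, h2]) M M (hM h2) v w
    obtain ⟨x, hx, hdet, -⟩ := Cfsg.Agent.H466.FC.exists_uni (p := p) (N := z) ⟨2, by rw [pow_two, hzz]⟩
    refine ⟨x, hdet, fun v w => ?_, fun f hf hE hE' => ?_⟩
    · rw [hx]
      exact isom_one_add hzz hskew v w
    · have h01 : (0 : ZMod e) ≠ 1 := zero_ne_one
      have hall : ∀ i : ZMod e, i = 0 ∨ i = 1 := by
        intro i
        have hi := ZMod.val_lt i
        have hi' : i = (i.val : ZMod e) := (ZMod.natCast_zmod_val i).symm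
        have : i.val = 0 ∨ i.val = 1 := by omega
        rcases this with h0 | h0
        · left; rw [hi', h0, Nat.cast_zero]
        · right; rw [hi', h0, Nat.cast_one]
      have key := fix_of_types hedef.symm hf hE x hE' (fun i => if i = 0 then 1 else z) (fun i => by
        rcases hall i with rfl | rfl
        · rw [if_pos rfl, ZMod.val_zero]; exact ty_one
        · rw [if_neg h01.symm, ZMod.val_one]; exact op_ty 1 ι M φ) (if_pos rfl) (fun i hi => by
        rw [if_neg hi]; exact hsing z hzz) (by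
        rw [hx]
        have hsum : ∑ i : ZMod e, (if i = 0 then (1 : R K V) else z) =
            ∑ i ∈ ({0, 1} : Finset (ZMod e)), (if i = 0 then (1 : R K V) else z) := by
          refine (Finset.sum_subset (Finset.subset_univ _) fun i _ hi => ?_).symm
          exfalso
          apply hi
          rcases hall i with rfl | rfl <;> simp
        rw [hsum, Finset.sum_pair h01, if_pos rfl, if_neg h01.symm]) 1
      simpa only [if_neg h01.symm] using key
  · -- `e` odd
    have he3 : 2 < e := by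
      have := he.two_le
      omega
    set M' : Matrix (Fin m) (Fin m) F := fun k l => ν (fr K F (e - 1) (M l k)) with hM'
    set z : R K V := op 1 ι M φ with hz
    set z' : R K V := op (e - 1) ι M' φ with hz'
    have hzz : z * z = 0 := op_mul 1 1 ι M M φ hφι
    have hz'z' : z' * z' = 0 := op_mul _ _ ι M' M' φ hφι
    have hzz' : z * z' = 0 := op_mul _ _ ι M M' φ hφι
    have hz'z : z' * z = 0 := op_mul _ _ ι M' M φ hφι
    have hij : (1 + (e - 1)) % Module.finrank K F = 0 := by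
      rw [← hedef, Nat.add_sub_cancel' he.one_le, Nat.mod_self]
    have hji : (e - 1 + 1) % Module.finrank K F = 0 := by
      rw [add_comm]; exact hij
    have hMM : ∀ k l, M l k = fr K F 1 (ν (M' k l)) := by
      intro k l
      rw [hM']
      simp only
      rw [hB.invol, fr_fr hij]
    have hMM' : ∀ k l, M' l k = fr K F (e - 1) (ν (M k l)) := by
      intro k l
      rw [hM']
      simp only
      rw [fr_ring]
    have hs1 : ∀ v w, b.B (z v) w = -b.B v (z' w) := fun v w => skew_op hB h hij M M' hMM v w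
    have hs2 : ∀ v w, b.B (z' v) w = -b.B v (z w) := fun v w => skew_op hB h hji M' M hMM' v w
    have hzt : (z + z') * (z + z') = 0 := by
      rw [mul_add, add_mul, add_mul, hzz, hz'z, hzz', hz'z', add_zero, add_zero]
    have hskew : ∀ v w, b.B ((z + z') v) w = -b.B v ((z + z') w) := by
      intro v w
      rw [LinearMap.add_apply, LinearMap.add_apply, b.add_left, b.add_right, hs1, hs2]
      ring
    obtain ⟨x, hx, hdet, -⟩ := Cfsg.Agent.H466.FC.exists_uni (p := p) (N := z + z') ⟨2, by rw [pow_two, hzt]⟩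
    refine ⟨x, hdet, fun v w => ?_, fun f hf hE hE' => ?_⟩
    · rw [hx]
      exact isom_one_add hzt hskew v w
    · have h01 : (0 : ZMod e) ≠ 1 := zero_ne_one
      have h0n : (0 : ZMod e) ≠ -1 := by
        intro h0
        exact h01 (by rw [← neg_neg (1 : ZMod e), ← h0, neg_zero])
      have hneg : (-1 : ZMod e).val = e - 1 := by
        rw [ZMod.neg_val, if_neg h01.symm, ZMod.val_one]
      have h1n : (1 : ZMod e) ≠ -1 := by
        intro h0
        have h3 := congrArg ZMod.val h0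
        rw [hneg, ZMod.val_one] at h3
        omega
      have key := fix_of_types hedef.symm hf hE x hE'
        (fun i => if i = 0 then 1 else if i = 1 then z else if i = -1 then z' else 0) (fun i => by
        split_ifs with h3 h4 h5
        · rw [h3, ZMod.val_zero]; exact ty_one
        · rw [h4, ZMod.val_one]; exact op_ty 1 ι M φ
        · rw [h5, hneg]; exact op_ty _ ι M' φ
        · exact ty_zero _) (if_pos rfl) (fun i hi => by
        rw [if_neg hi]
        split_ifs
        · exact hsing z hzz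
        · exact hsing z' hz'z'
        · exact hsing 0 (mul_zero _)) (by
        rw [hx]
        have hsum : ∑ i : ZMod e, (if i = 0 then (1 : R K V) else if i = 1 then z else if i = -1 then z' else 0) =
            ∑ i ∈ ({0, 1, -1} : Finset (ZMod e)),
              (if i = 0 then (1 : R K V) else if i = 1 then z else if i = -1 then z' else 0) := by
          refine (Finset.sum_subset (Finset.subset_univ _) fun i _ hi => ?_).symm
          simp only [Finset.mem_insert, Finset.mem_singleton, not_or] at hi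
          rw [if_neg hi.1, if_neg hi.2.1, if_neg hi.2.2]
        rw [hsum, Finset.sum_insert (by simp [h01, h0n]), Finset.sum_pair h1n, if_pos rfl, if_neg h01.symm,
          if_pos rfl, if_neg h0n.symm, if_neg h1n.symm, if_pos rfl]) 1
      simpa only [if_neg h01.symm, if_true] using key

end fin

end

end Cfsg.Agent.H510.BF
end

-- part: H510/BF/Form
section
/-!
# S5764, StmtBC3: the form over `F`
-/

set_option autoImplicit false

namespace Cfsg.Agent.H510.BF

open Cfsg.Agent.H198.FC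

universe u v w

section

variable {K : Type u} [Field K] {V : Type v} [AddCommGroup V] [Module K V]

/-- the symmetry of the form: `b(w,v) = s τ(b(v,w))` -/
theorem cl_symm (b : Cl K V) : ∃ s : K, (s = 1 ∨ (s = -1 ∧ ∀ a, b.τ a = a)) ∧ ∀ v w, b.B w v = s * b.τ (b.B v w) := by
  rcases b.typ with ⟨-, h⟩ | ⟨h, h'⟩
  · exact ⟨1, Or.inl rfl, fun v w => by rw [h, one_mul]⟩
  · refine ⟨-1, Or.inr ⟨rfl, h⟩, fun v w => ?_⟩
    have h1 := h' (v + w)
    rw [b.add_left, b.add_right, b.add_right, h', h', zero_add, add_zero] at h1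
    rw [h, neg_one_mul]
    exact eq_neg_of_add_eq_zero_right h1

theorem cl_nondeg (b : Cl K V) {w : V} (h : ∀ v, b.B v w = 0) : w = 0 := by
  apply b.nondeg
  intro v
  obtain ⟨s, -, hs⟩ := cl_symm b
  rw [hs v w, h, map_zero, mul_zero]

theorem cl_zero_right (b : Cl K V) (v : V) : b.B v 0 = 0 := by
  have h := b.add_right v 0 0
  rw [add_zero] at h
  exact left_eq_add.1 h

theorem cl_neg_right (b : Cl K V) (v w : V) : b.B v (-w) = -b.B v w := by
  have h := b.add_right v w (-w)
  rw [add_neg_cancel, cl_zero_right] at h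
  exact (neg_eq_of_add_eq_zero_right h.symm).symm

variable {F : Type w} [Field F] [Algebra K F] [Module F V] [IsScalarTower K F V]

omit [Algebra K F] [IsScalarTower K F V] in
theorem ad_unique [Nontrivial V] (b : Cl K V) {β β' : F} (h : ∀ v w, b.B v (β • w) = b.B v (β' • w)) : β = β' := by
  obtain ⟨w, hw⟩ := exists_ne (0 : V)
  have h1 : β • w - β' • w = 0 := by
    apply cl_nondeg b
    intro v
    rw [sub_eq_add_neg, b.add_right, cl_neg_right, h, add_neg_cancel]
  rw [← sub_smul] at h1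
  rcases smul_eq_zero.1 h1 with h2 | h2
  · exact sub_eq_zero.1 h2
  · exact absurd h2 hw

/-- the adjoint on `F` -/
theorem exists_nu [Nontrivial V] (b : Cl K V)
    (hadj : ∀ α : F, ∃ β : F, ∀ v w, b.B (α • v) w = b.B v (β • w)) :
    ∃ ν : F ≃+* F, (∀ a, ν (ν a) = a) ∧ (∀ a : K, ν (algebraMap K F a) = algebraMap K F (b.τ a)) ∧
      ∀ (α : F) v w, b.B (α • v) w = b.B v (ν α • w) := by
  choose β hβ using hadj
  have hinv : ∀ a, β (β a) = a := by
    intro a
    apply ad_unique b
    intro v w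
    rw [← hβ]
    obtain ⟨s, hs1, hs⟩ := cl_symm b
    have h1 : b.B (β a • v) w = s * b.τ (b.B w (β a • v)) := hs _ _
    rw [h1, ← hβ, ← hs]
  have hadd : ∀ a a', β (a + a') = β a + β a' := by
    intro a a'
    apply ad_unique b
    intro v w
    rw [← hβ, add_smul, add_smul, b.add_left, b.add_right, hβ, hβ]
  have hmul : ∀ a a', β (a * a') = β a * β a' := by
    intro a a'
    apply ad_unique b
    intro v w
    rw [← hβ, mul_smul, hβ, hβ, ← mul_smul, mul_comm]
  refine ⟨{ toFun := β, invFun := β, left_inv := hinv, right_inv := hinv, map_mul' := hmul, map_add' := hadd },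
    hinv, fun a => ?_, hβ⟩
  change β (algebraMap K F a) = _
  apply ad_unique b
  intro v w
  rw [← hβ, algebraMap_smul, algebraMap_smul, b.smul_left, b.smul_right, b.invol]

variable [Finite K] [Finite F]

theorem trace_nu (b : Cl K V) (ν : F ≃+* F) (hν : ∀ a : K, ν (algebraMap K F a) = algebraMap K F (b.τ a)) (x : F) :
    Algebra.trace K F (ν x) = b.τ (Algebra.trace K F x) := by
  have h := Algebra.trace_eq_of_equiv_equiv b.τ ν (RingHom.ext fun a => (hν a).symm) x
  rw [h, RingEquiv.apply_symm_apply]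

theorem trace_ext {x y : F} (h : ∀ α, Algebra.trace K F (α * x) = Algebra.trace K F (α * y)) : x = y := by
  have hnd := traceForm_nondegenerate K F
  rw [← sub_eq_zero]
  apply hnd.1
  intro α
  rw [Algebra.traceForm_apply, mul_comm, mul_sub, map_sub, h, sub_self]

/-- **the form over `F`** -/
theorem exists_form [Nontrivial V] (b : Cl K V)
    (hadj : ∀ α : F, ∃ β : F, ∀ v w, b.B (α • v) w = b.B v (β • w)) :
    ∃ (ν : F ≃+* F) (B : V → V → F) (c : K), SkData K F b ν B c := by
  obtain ⟨ν, hinv, hext, hν⟩ := exists_nu b hadj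
  obtain ⟨s, hs1, hs⟩ := cl_symm b
  have hnd := traceForm_nondegenerate K F
  -- the functional
  let fn : V → V → (F →ₗ[K] K) := fun v w =>
    { toFun := fun α => b.B (α • v) w
      map_add' := fun α β => by rw [add_smul, b.add_left]
      map_smul' := fun a α => by rw [smul_assoc, b.smul_left]; rfl }
  have hex : ∀ v w, ∃ x : F, ∀ α : F, b.B (α • v) w = Algebra.trace K F (α * x) := by
    intro v w
    refine ⟨((Algebra.traceForm K F).toDual hnd).symm (fn v w), fun α => ?_⟩
    have h1 := LinearMap.BilinForm.apply_toDual_symm_apply (hB := hnd) (fn v w) α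
    rw [Algebra.traceForm_apply, mul_comm] at h1
    exact h1.symm
  choose B0 hB0 using hex
  have hb : ∀ v w, b.B v w = Algebra.trace K F (B0 v w) := by
    intro v w
    have h := hB0 v w 1
    rwa [one_smul, one_mul] at h
  have p1 : ∀ v v' w, B0 (v + v') w = B0 v w + B0 v' w := by
    intro v v' w
    apply trace_ext (K := K)
    intro α
    rw [← hB0, smul_add, b.add_left, hB0, hB0, mul_add, map_add]
  have p2 : ∀ v w w', B0 v (w + w') = B0 v w + B0 v w' := by
    intro v w w'
    apply trace_ext (K := K)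
    intro α
    rw [← hB0, b.add_right, hB0, hB0, mul_add, map_add]
  have p3 : ∀ (a : F) v w, B0 (a • v) w = a * B0 v w := by
    intro a v w
    apply trace_ext (K := K)
    intro α
    rw [← hB0, ← mul_smul, hB0, mul_assoc]
  have p4 : ∀ (a : F) v w, B0 v (a • w) = ν a * B0 v w := by
    intro a v w
    apply trace_ext (K := K)
    intro α
    have h1 : b.B (α • v) (a • w) = b.B (ν a • (α • v)) w := by rw [hν (ν a), hinv]
    rw [← hB0, h1, ← mul_smul, hB0]
    congr 1
    ring
  have p5 : ∀ v w, B0 w v = algebraMap K F s * ν (B0 v w) := by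
    intro v w
    apply trace_ext (K := K)
    intro α
    have h1 : b.B v (α • w) = b.B (ν α • v) w := by rw [hν (ν α), hinv]
    rw [← hB0, hs v (α • w), h1, hB0, ← trace_nu b ν hext, map_mul, hinv, mul_left_comm, ← Algebra.smul_def,
      LinearMap.map_smul, smul_eq_mul]
  have halt0 : (∀ a, ν a = a) → ∀ v, B0 v v = 0 := by
    intro hid v
    have hτ : ∀ a, b.τ a = a := by
      intro a
      have h1 := hext a
      rw [hid] at h1
      exact ((algebraMap K F).injective h1).symm
    have hsp : ∀ v, b.B v v = 0 := by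
      rcases b.typ with ⟨⟨a, ha⟩, -⟩ | ⟨-, h⟩
      · exact absurd (hτ a) ha
      · exact h
    apply trace_ext (K := K)
    intro α
    rw [mul_zero, map_zero, ← hB0]
    by_cases h2 : ringChar F = 2
    · obtain ⟨β, rfl⟩ := FiniteField.isSquare_of_char_two h2 α
      rw [mul_smul, hν, hid, hsp]
    · have h3 : b.B (α • v) v + b.B v (α • v) = 0 := by
        have h4 := hsp (α • v + v)
        rw [b.add_left, b.add_right, b.add_right, hsp, hsp, zero_add, add_zero] at h4
        exact h4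
      have h5 : b.B v (α • v) = b.B (α • v) v := by rw [hν α, hid]
      rw [h5, ← two_mul] at h3
      have h6 : (2 : K) ≠ 0 := by
        intro h7
        apply Ring.two_ne_zero h2
        have h8 := congrArg (algebraMap K F) h7
        rwa [map_ofNat, map_zero] at h8
      exact (mul_eq_zero.1 h3).resolve_left h6
  -- scaling
  obtain ⟨δ, hδ0, hδ⟩ : ∃ δ : K, δ ≠ 0 ∧ s * δ = -b.τ δ := by
    rcases b.typ with ⟨⟨a, ha⟩, h⟩ | ⟨h, h'⟩
    · have hs1' : s = 1 := by
        rcases hs1 with h1 | ⟨-, h2⟩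
        · exact h1
        · exact absurd (h2 a) ha
      refine ⟨a - b.τ a, sub_ne_zero.2 (Ne.symm ha), ?_⟩
      rw [hs1', one_mul, map_sub, b.invol]
      ring
    · refine ⟨1, one_ne_zero, ?_⟩
      rw [map_one, mul_one]
      rcases hs1 with h1 | ⟨h1, -⟩
      · -- `s = 1` and alternating: characteristic two
        obtain ⟨v, hv⟩ := exists_ne (0 : V)
        obtain ⟨w, hw⟩ : ∃ w, b.B v w ≠ 0 := by
          by_contra hcon
          push Not at hcon
          exact hv (b.nondeg v hcon)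
        have h3 := hs v w
        have h4 : b.B v w + b.B w v = 0 := by
          have h4 := h' (v + w)
          rw [b.add_left, b.add_right, b.add_right, h', h', zero_add, add_zero] at h4
          exact h4
        rw [h3, h, h1, one_mul, ← two_mul] at h4
        have h5 := (mul_eq_zero.1 h4).resolve_right hw
        have h6 : (1 : K) + 1 = 0 := by rw [one_add_one_eq_two, h5]
        rw [h1]
        exact eq_neg_of_add_eq_zero_left h6
      · exact h1
  refine ⟨ν, fun v w => algebraMap K F δ * B0 v w, δ⁻¹, ⟨hinv, hext, ?_, ?_, ?_, ?_, ?_, ?_, ?_, inv_ne_zero hδ0, ?_⟩⟩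
  · intro v v' w; rw [p1, mul_add]
  · intro v w w'; rw [p2, mul_add]
  · intro a v w; rw [p3, mul_left_comm]
  · intro a v w; rw [p4, mul_left_comm]
  · intro v w
    rw [p5, map_mul, hext, ← mul_assoc, ← map_mul, mul_comm δ s, hδ, map_neg, neg_mul]
  · intro v hv
    apply b.nondeg
    intro w
    have h1 : B0 v w = 0 := by
      have h2 := hv w
      rcases mul_eq_zero.1 h2 with h3 | h3
      · exact absurd ((map_eq_zero _).1 h3) hδ0
      · exact h3
    rw [hb, h1, map_zero]
  · intro hid v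
    rw [halt0 hid, mul_zero]
  · intro v w
    rw [hb, ← Algebra.smul_def, LinearMap.map_smul, smul_eq_mul, ← mul_assoc, inv_mul_cancel₀ hδ0, one_mul]

/-- an involution of `F`, `|F| = |K|²`, is trivial or `a ↦ a^|K|` -/
theorem invol_two (ν : F ≃+* F) (hinv : ∀ a, ν (ν a) = a) (h2 : Module.finrank K F = 2) :
    (∀ a, ν a = a) ∨ ∀ a, ν a = fr K F 1 a := by
  classical
  letI := Fintype.ofFinite K
  letI := Fintype.ofFinite F
  obtain ⟨p, hp⟩ := CharP.exists F
  haveI : Fact p.Prime := ⟨CharP.char_is_prime F p⟩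
  letI : Algebra (ZMod p) F := ZMod.algebra F p
  set n := Module.finrank (ZMod p) F with hn
  have hbij := FiniteField.bijective_frobeniusAlgHom_pow (ZMod p) F
  have hpow : ∀ (k : ℕ) (a : F), (FiniteField.frobeniusAlgHom (ZMod p) F ^ k) a = a ^ p ^ k := by
    intro k a
    rw [AlgHom.coe_pow, FiniteField.coe_frobeniusAlgHom, pow_iterate, ZMod.card]
  let νA : F →ₐ[ZMod p] F :=
    { (ν : F →+* F) with
      commutes' := fun r => RingHom.congr_fun (RingHom.ext_zmod ((ν : F →+* F).comp (algebraMap (ZMod p) F))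
        (algebraMap (ZMod p) F)) r }
  obtain ⟨j, hj⟩ := hbij.2 νA
  have hj' : ∀ a, ν a = a ^ p ^ j.1 := by
    intro a
    rw [← hpow]
    exact (DFunLike.congr_fun hj a).symm
  have hcard : Fintype.card F = p ^ n := by
    rw [Module.card_eq_pow_finrank (K := ZMod p) (V := F), ZMod.card]
  have hj2 : ∀ a : F, a ^ p ^ (2 * j.1) = a := by
    intro a
    have h := hinv a
    rw [hj' a, hj', ← pow_mul, ← pow_add] at h
    rwa [two_mul]
  have hlt : j.1 < n := j.2
  have hn0 : 0 < n := by omega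
  by_cases hle : 2 * j.1 < n
  · left
    have h3 := hbij.1 (a₁ := ⟨2 * j.1, hle⟩) (a₂ := ⟨0, hn0⟩) (by
      apply AlgHom.ext
      intro a
      change (FiniteField.frobeniusAlgHom (ZMod p) F ^ (2 * j.1)) a = (FiniteField.frobeniusAlgHom (ZMod p) F ^ 0) a
      rw [hpow, hpow, hj2, pow_zero, pow_one])
    have h4 := congrArg Fin.val h3
    simp only at h4
    intro a
    have h5 : j.1 = 0 := by omega
    rw [hj', h5, pow_zero, pow_one]
  · right
    have h5 : ∀ a : F, a ^ p ^ (2 * j.1 - n) = a := by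
      intro a
      have h6 := hj2 a
      have h7 : 2 * j.1 = n + (2 * j.1 - n) := by omega
      rw [h7, pow_add, pow_mul, ← hcard, FiniteField.pow_card] at h6
      exact h6
    have h3 := hbij.1 (a₁ := ⟨2 * j.1 - n, by omega⟩) (a₂ := ⟨0, hn0⟩) (by
      apply AlgHom.ext
      intro a
      change (FiniteField.frobeniusAlgHom (ZMod p) F ^ (2 * j.1 - n)) a = (FiniteField.frobeniusAlgHom (ZMod p) F ^ 0) a
      rw [hpow, hpow, h5, pow_zero, pow_one])
    have h4 := congrArg Fin.val h3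
    simp only at h4
    have h6 : n = 2 * j.1 := by omega
    have h7 : Fintype.card K ^ 2 = (p ^ j.1) ^ 2 := by
      rw [← pow_mul, mul_comm j.1 2, ← h6, ← hcard, Module.card_eq_pow_finrank (K := K) (V := F), h2]
    have h8 : Fintype.card K = p ^ j.1 := Nat.pow_left_injective (by norm_num) h7
    intro a
    rw [hj', fr_apply, Nat.card_eq_fintype_card, h8, pow_one]

/-- the fixed points of `a ↦ a^|K|` -/
theorem mem_of_fix {t : F} (ht : fr K F 1 t = t) : ∃ k : K, algebraMap K F k = t := by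
  letI := Fintype.ofFinite K
  letI := Fintype.ofFinite F
  have h1 : t ∈ (⊥ : IntermediateField K F) := by
    rw [IsGalois.mem_bot_iff_fixed]
    intro f
    obtain ⟨n, hn⟩ := (FiniteField.bijective_frobeniusAlgEquivOfAlgebraic_pow K F).2 f
    rw [← hn]
    simp only
    generalize (n : ℕ) = k
    have h2 : ∀ k : ℕ, (FiniteField.frobeniusAlgEquivOfAlgebraic K F ^ k) t = t := by
      intro k
      induction k with
      | zero => rw [pow_zero]; rfl
      | succ k ih =>
        rw [pow_succ, AlgEquiv.mul_apply]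
        have h3 : (FiniteField.frobeniusAlgEquivOfAlgebraic K F) t = t := by
          rw [fr, pow_one] at ht
          exact ht
        rw [h3, ih]
    exact h2 k
  exact IntermediateField.mem_bot.1 h1

/-- a generator of the multiplicative group -/
theorem exists_gen : ∃ γ : F, ∀ a : F, a ≠ 0 → ∃ k : ℕ, a = γ ^ k := by
  obtain ⟨g, hg⟩ := IsCyclic.exists_monoid_generator (α := Fˣ)
  refine ⟨g, fun a ha => ?_⟩
  obtain ⟨k, hk⟩ := hg (Units.mk0 a ha)
  refine ⟨k, ?_⟩
  have h := congrArg Units.val hk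
  simpa using h.symm

end

end Cfsg.Agent.H510.BF
end

-- part: H510/BF/Rigid
section
/-!
# S5764, StmtBC3: the four elements in the standard model and their rigidity
-/

set_option autoImplicit false

namespace Cfsg.Agent.H510.BF

universe w

section

variable {F : Type w} [Field F] {m ε : ℕ}

variable (F m ε) in
/-- the model -/
abbrev W := (Fin m → F) × (Fin m → F) × (Fin ε → F)

/-- the four embeddings -/
def i1 : (Fin m → F) →ₗ[F] W F m ε where
  toFun x := (x, 0, 0)
  map_add' x y := by ext <;> simp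
  map_smul' a x := by ext <;> simp

def i2 : (Fin m → F) →ₗ[F] W F m ε where
  toFun x := (0, x, 0)
  map_add' x y := by ext <;> simp
  map_smul' a x := by ext <;> simp

def i3 : (Fin m → F) →ₗ[F] W F m ε where
  toFun x := (x, x, 0)
  map_add' x y := by ext <;> simp
  map_smul' a x := by ext <;> simp

def i4 (i0 : Fin m) (κ : F) : (Fin m → F) →ₗ[F] W F m ε where
  toFun x := (x, Pi.single i0 (κ * x i0), fun _ => x i0)
  map_add' x y := by
    refine Prod.ext rfl (Prod.ext ?_ rfl)
    change (Pi.single i0 (κ * (x + y) i0) : Fin m → F) = Pi.single i0 (κ * x i0) + Pi.single i0 (κ * y i0)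
    rw [Pi.add_apply, mul_add, Pi.single_add]
  map_smul' a x := by
    refine Prod.ext rfl (Prod.ext ?_ rfl)
    change (Pi.single i0 (κ * (a • x) i0) : Fin m → F) = a • Pi.single i0 (κ * x i0)
    rw [Pi.smul_apply, smul_eq_mul, ← Pi.single_smul, smul_eq_mul, mul_left_comm]

/-- the four coordinate maps -/
def f1 : W F m ε →ₗ[F] (Fin m → F) where
  toFun v := -v.2.1
  map_add' x y := by ext; simp [add_comm]
  map_smul' a x := by ext; simp

def f2 : W F m ε →ₗ[F] (Fin m → F) where
  toFun v := v.1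
  map_add' x y := by ext; simp
  map_smul' a x := by ext; simp

def f3 : W F m ε →ₗ[F] (Fin m → F) where
  toFun v := v.1 - v.2.1
  map_add' x y := by ext; simp; ring
  map_smul' a x := by ext; simp; ring

def f4 (i0 : Fin m) (κ' δ : F) : W F m ε →ₗ[F] (Fin m → F) where
  toFun v := -v.2.1 + Pi.single i0 (κ' * v.1 i0 + δ * ∑ i, v.2.2 i)
  map_add' x y := by
    have h1 : (κ' * (x + y).1 i0 + δ * ∑ i, (x + y).2.2 i) =
        (κ' * x.1 i0 + δ * ∑ i, x.2.2 i) + (κ' * y.1 i0 + δ * ∑ i, y.2.2 i) := by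
      have h2 : ∑ i, (x + y).2.2 i = ∑ i, x.2.2 i + ∑ i, y.2.2 i := by
        rw [← Finset.sum_add_distrib]; rfl
      rw [h2]
      change κ' * (x.1 i0 + y.1 i0) + _ = _
      ring
    rw [h1, Pi.single_add]
    change -(x.2.1 + y.2.1) + _ = _
    abel
  map_smul' a x := by
    have h1 : (κ' * (a • x).1 i0 + δ * ∑ i, (a • x).2.2 i) = a • (κ' * x.1 i0 + δ * ∑ i, x.2.2 i) := by
      have h2 : ∑ i, (a • x).2.2 i = a * ∑ i, x.2.2 i := by
        rw [Finset.mul_sum]; rfl
      rw [h2]
      change κ' * (a * x.1 i0) + _ = a * _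
      ring
    rw [h1, Pi.single_smul]
    change -(a • x.2.1) + _ = _
    rw [RingHom.id_apply, smul_add, smul_neg]

/-- path matrix with the entry `g` in the corner -/
def pm (m : ℕ) (g : F) : Matrix (Fin m) (Fin m) F := fun k l =>
  if k = l then (if k.val = 0 then g else 0) else if k.val + 1 = l.val ∨ l.val + 1 = k.val then 1 else 0

/-- the operators -/
def Zop (τ : F ≃+* F) (ι : (Fin m → F) →ₗ[F] W F m ε) (M : Matrix (Fin m) (Fin m) F)
    (φ : W F m ε →ₗ[F] (Fin m → F)) (w : W F m ε) : W F m ε := ι (M.mulVec fun k => τ (φ w k))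

theorem pm_zero {g : F} {i0 : Fin m} (hi0 : i0.val = 0) (a : F) : (pm m g).mulVec (Pi.single i0 a) i0 = g * a := by
  rw [Matrix.mulVec_single]
  change pm m g i0 i0 * a = _
  rw [pm, if_pos rfl, if_pos hi0]

theorem pm_symm (g : F) (k l : Fin m) : pm m g l k = pm m g k l := by
  unfold pm
  by_cases h : k = l
  · rw [h]
  · rw [if_neg h, if_neg (Ne.symm h)]
    congr 1
    exact propext or_comm

/-- **rigidity** -/
theorem rigid (τ : F ≃+* F) (hε : ε ≤ 1) {i0 : Fin m} (hi0 : i0.val = 0) {κ κ' γ₂ δ γ : F} (hκ : κ ≠ 0)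
    (hκ' : κ' ≠ 0) (hγ₂ : γ₂ ≠ 0) (hγ : ∀ a : F, a ≠ 0 → ∃ k : ℕ, a = γ ^ k) (hγ' : γ = κ ∨ γ = γ₂)
    (g : W F m ε → W F m ε) (hadd : ∀ v w, g (v + w) = g v + g w)
    (h1 : ∀ w, g (Zop τ i1 1 f1 w) = Zop τ i1 1 f1 (g w))
    (h2 : ∀ w, g (Zop τ i2 1 f2 w) = Zop τ i2 1 f2 (g w))
    (h3 : ∀ w, g (Zop τ i3 1 f3 w) = Zop τ i3 1 f3 (g w))
    (h4 : ∀ w, g (Zop τ (i4 i0 κ) (pm m γ₂) (f4 i0 κ' δ) w) = Zop τ (i4 i0 κ) (pm m γ₂) (f4 i0 κ' δ) (g w)) :
    ∃ t : F, τ t = t ∧ ∀ w, g w = t • w := by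
  classical
  have g0 : g 0 = 0 := by
    have h := hadd 0 0
    rw [add_zero] at h
    exact left_eq_add.1 h
  have z1 : ∀ x x' a, Zop τ i1 1 f1 ((x, x', a) : W F m ε) = ((fun k => -τ (x' k)), 0, 0) := by
    intro x x' a
    unfold Zop
    rw [Matrix.one_mulVec]
    refine Prod.ext (funext fun k => ?_) rfl
    exact map_neg τ _
  have z2 : ∀ x x' a, Zop τ i2 1 f2 ((x, x', a) : W F m ε) = (0, (fun k => τ (x k)), 0) := by
    intro x x' a
    unfold Zop
    rw [Matrix.one_mulVec]
    rfl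
  have z3 : ∀ x x' a, Zop τ i3 1 f3 ((x, x', a) : W F m ε) = ((fun k => τ (x k - x' k)), (fun k => τ (x k - x' k)), 0) := by
    intro x x' a
    unfold Zop
    rw [Matrix.one_mulVec]
    rfl
  set h : (Fin m → F) → (Fin m → F) := fun x => (g (x, 0, 0)).1 with hh
  set k : (Fin ε → F) → (Fin ε → F) := fun a => (g (0, 0, a)).2.2 with hk
  have gL : ∀ x, g (x, 0, 0) = (h x, 0, 0) := by
    intro x
    have e1 : ((x, 0, 0) : W F m ε) = Zop τ i1 1 f1 (0, (fun k => -τ.symm (x k)), 0) := by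
      rw [z1]
      refine Prod.ext (funext fun k => ?_) rfl
      change x k = -τ (-τ.symm (x k))
      rw [map_neg, neg_neg, RingEquiv.apply_symm_apply]
    have e2 : g (x, 0, 0) = Zop τ i1 1 f1 (g (0, (fun k => -τ.symm (x k)), 0)) := by rw [← h1, ← e1]
    refine Prod.ext rfl ?_
    rw [e2]
    obtain ⟨a, b, c⟩ := g (0, (fun k => -τ.symm (x k)), 0)
    rw [z1]
  have gL' : ∀ x, (g (0, x, 0)).1 = 0 ∧ (g (0, x, 0)).2.2 = 0 := by
    intro x
    have e1 : ((0, x, 0) : W F m ε) = Zop τ i2 1 f2 ((fun k => τ.symm (x k)), 0, 0) := by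
      rw [z2]
      refine Prod.ext rfl (Prod.ext (funext fun k => ?_) rfl)
      change x k = τ (τ.symm (x k))
      rw [RingEquiv.apply_symm_apply]
    have e2 : g (0, x, 0) = Zop τ i2 1 f2 (g ((fun k => τ.symm (x k)), 0, 0)) := by rw [← h2, ← e1]
    rw [e2]
    obtain ⟨a, b, c⟩ := g ((fun k => τ.symm (x k)), 0, 0)
    rw [z2]
    exact ⟨rfl, rfl⟩
  have gD : ∀ x, (g (x, x, 0)).1 = (g (x, x, 0)).2.1 := by
    intro x
    have e1 : ((x, x, 0) : W F m ε) = Zop τ i3 1 f3 ((fun k => τ.symm (x k)), 0, 0) := by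
      rw [z3]
      have e3 : (fun k => τ (τ.symm (x k) - (0 : Fin m → F) k)) = x := by
        funext k
        rw [Pi.zero_apply, sub_zero, RingEquiv.apply_symm_apply]
      rw [e3]
    have e2 : g (x, x, 0) = Zop τ i3 1 f3 (g ((fun k => τ.symm (x k)), 0, 0)) := by rw [← h3, ← e1]
    rw [e2]
    obtain ⟨a, b, c⟩ := g ((fun k => τ.symm (x k)), 0, 0)
    rw [z3]
  have gL2 : ∀ x, g (0, x, 0) = (0, h x, 0) := by
    intro x
    have e1 : ((x, x, 0) : W F m ε) = (x, 0, 0) + (0, x, 0) := by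
      refine Prod.ext ?_ (Prod.ext ?_ ?_)
      · exact (add_zero x).symm
      · exact (zero_add x).symm
      · exact (add_zero _).symm
    have e2 := gD x
    rw [e1, hadd, gL] at e2
    have e3 : h x + (g (0, x, 0)).1 = 0 + (g (0, x, 0)).2.1 := e2
    rw [(gL' x).1, add_zero, zero_add] at e3
    exact Prod.ext (gL' x).1 (Prod.ext e3.symm (gL' x).2)
  have gU : ∀ a, g (0, 0, a) = (0, 0, k a) := by
    intro a
    have e1 := h1 (0, 0, a)
    have e2 := h2 (0, 0, a)
    rw [z1] at e1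
    rw [z2] at e2
    have e3 : (((fun k => -τ ((0 : Fin m → F) k)), 0, 0) : W F m ε) = 0 := by
      refine Prod.ext (funext fun k => ?_) rfl
      change -τ 0 = 0
      rw [map_zero, neg_zero]
    have e4 : ((0, (fun k => τ ((0 : Fin m → F) k)), 0) : W F m ε) = 0 := by
      refine Prod.ext rfl (Prod.ext (funext fun k => ?_) rfl)
      change τ 0 = 0
      rw [map_zero]
    rw [e3, g0] at e1
    rw [e4, g0] at e2
    obtain ⟨⟨p, p', c⟩, hg⟩ : ∃ w, g (0, 0, a) = w := ⟨_, rfl⟩
    rw [hg, z1] at e1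
    rw [hg, z2] at e2
    have e5 : p' = 0 := by
      funext j
      have h5 := congrFun (congrArg Prod.fst e1) j
      change (0 : F) = -τ (p' j) at h5
      have h6 : τ (p' j) = 0 := by rw [← neg_eq_zero, ← h5]
      exact (map_eq_zero τ).1 h6
    have e6 : p = 0 := by
      funext j
      have h5 := congrFun (congrArg (fun w : W F m ε => w.2.1) e2) j
      change (0 : F) = τ (p j) at h5
      exact (map_eq_zero τ).1 h5.symm
    have e7 : k a = c := by rw [hk]; simp only; rw [hg]
    rw [hg, e5, e6, e7]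
  have gen : ∀ x x' a, g (x, x', a) = (h x, h x', k a) := by
    intro x x' a
    have e1 : ((x, x', a) : W F m ε) = (x, 0, 0) + ((0, x', 0) + (0, 0, a)) := by
      refine Prod.ext ?_ (Prod.ext ?_ ?_)
      · change x = x + (0 + 0); rw [add_zero, add_zero]
      · change x' = 0 + (x' + 0); rw [add_zero, zero_add]
      · change a = 0 + (0 + a); rw [zero_add, zero_add]
    rw [e1, hadd, hadd, gL, gL2, gU]
    refine Prod.ext ?_ (Prod.ext ?_ ?_)
    · change h x + (0 + 0) = h x; rw [add_zero, add_zero]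
    · change 0 + (h x' + 0) = h x'; rw [add_zero, zero_add]
    · change 0 + (0 + k a) = k a; rw [zero_add, zero_add]
  have hadd' : ∀ x y, h (x + y) = h x + h y := by
    intro x y
    have e1 : ((x + y, 0, 0) : W F m ε) = (x, 0, 0) + (y, 0, 0) := by
      refine Prod.ext rfl (Prod.ext ?_ ?_)
      · exact (add_zero _).symm
      · exact (add_zero _).symm
    change (g (x + y, 0, 0)).1 = _
    rw [e1, hadd]
    rfl
  have h00 : h 0 = 0 := by
    have h := hadd' 0 0
    rw [add_zero] at h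
    exact left_eq_add.1 h
  have hneg : ∀ x, h (-x) = -h x := by
    intro x
    have h1 := hadd' x (-x)
    rw [add_neg_cancel, h00] at h1
    exact (neg_eq_of_add_eq_zero_right h1.symm).symm
  have k00 : k 0 = 0 := by
    change (g 0).2.2 = 0
    rw [g0]; rfl
  -- `h` commutes with `τ`
  have hτ : ∀ x, h (fun j => τ (x j)) = fun j => τ (h x j) := by
    intro x
    have e1 := h2 (x, 0, 0)
    rw [z2, gen, gen, z2] at e1
    exact congrArg (fun w : W F m ε => w.2.1) e1
  -- the fourth operator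
  have z4 : ∀ w : W F m ε, Zop τ (i4 i0 κ) (pm m γ₂) (f4 i0 κ' δ) w =
      ((pm m γ₂).mulVec (fun j => τ (f4 i0 κ' δ w j)),
        Pi.single i0 (κ * (pm m γ₂).mulVec (fun j => τ (f4 i0 κ' δ w j)) i0),
        fun _ => (pm m γ₂).mulVec (fun j => τ (f4 i0 κ' δ w j)) i0) := fun w => rfl
  have hC : ∀ (x x' : Fin m → F) (a : Fin ε → F), h ((pm m γ₂).mulVec (fun j => τ (f4 i0 κ' δ (x, x', a) j))) =
        (pm m γ₂).mulVec (fun j => τ (f4 i0 κ' δ (h x, h x', k a) j)) ∧
      h (Pi.single i0 (κ * (pm m γ₂).mulVec (fun j => τ (f4 i0 κ' δ (x, x', a) j)) i0)) =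
        Pi.single i0 (κ * h ((pm m γ₂).mulVec (fun j => τ (f4 i0 κ' δ (x, x', a) j))) i0) ∧
      k (fun _ => (pm m γ₂).mulVec (fun j => τ (f4 i0 κ' δ (x, x', a) j)) i0) =
        fun _ => h ((pm m γ₂).mulVec (fun j => τ (f4 i0 κ' δ (x, x', a) j))) i0 := by
    intro x x' a
    have e1 := h4 (x, x', a)
    rw [z4, gen, gen, z4] at e1
    have e2 := congrArg (fun w : W F m ε => w.1) e1
    have e3 := congrArg (fun w : W F m ε => w.2.1) e1
    have e4 := congrArg (fun w : W F m ε => w.2.2) e1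
    simp only at e2 e3 e4
    refine ⟨e2, ?_, ?_⟩
    · rw [e2]; exact e3
    · rw [e2]; exact e4
  have f4t : ∀ t : Fin m → F, f4 i0 κ' δ ((0, -t, 0) : W F m ε) = t := by
    intro t
    change -(-t) + Pi.single i0 (κ' * (0 : F) + δ * ∑ i : Fin ε, (0 : F)) = t
    rw [Finset.sum_const_zero, mul_zero, mul_zero, add_zero, Pi.single_zero, add_zero, neg_neg]
  have f4x : ∀ x : Fin m → F, f4 i0 κ' δ ((x, 0, 0) : W F m ε) = Pi.single i0 (κ' * x i0) := by
    intro x
    change -(0 : Fin m → F) + Pi.single i0 (κ' * x i0 + δ * ∑ i : Fin ε, (0 : F)) = _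
    rw [Finset.sum_const_zero, mul_zero, add_zero, neg_zero, zero_add]
  have hsymm : ∀ s : Fin m → F, (fun j => τ ((fun j => τ.symm (s j)) j)) = s := by
    intro s
    funext j
    exact RingEquiv.apply_symm_apply τ (s j)
  have hM : ∀ s, h ((pm m γ₂).mulVec s) = (pm m γ₂).mulVec (h s) := by
    intro s
    have e1 := (hC 0 (-(fun j => τ.symm (s j))) 0).1
    rw [f4t, hsymm, h00, k00, hneg, f4t, ← hτ, hsymm] at e1
    exact e1
  have hC2 : ∀ s, h (Pi.single i0 (κ * (pm m γ₂).mulVec s i0)) = Pi.single i0 (κ * h ((pm m γ₂).mulVec s) i0) := by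
    intro s
    have e1 := (hC 0 (-(fun j => τ.symm (s j))) 0).2.1
    rw [f4t, hsymm] at e1
    exact e1
  have hC3 : ∀ s, k (fun _ => (pm m γ₂).mulVec s i0) = fun _ => h ((pm m γ₂).mulVec s) i0 := by
    intro s
    have e1 := (hC 0 (-(fun j => τ.symm (s j))) 0).2.2
    rw [f4t, hsymm] at e1
    exact e1
  set θ : F → F := fun a => h (Pi.single i0 a) i0 with hθ
  have hpm : ∀ a : F, (pm m γ₂).mulVec (Pi.single i0 (a / γ₂)) i0 = a := by
    intro a
    rw [pm_zero hi0, mul_div_cancel₀ a hγ₂]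
  have hsin : ∀ a, h (Pi.single i0 a) = Pi.single i0 (θ a) := by
    intro a
    have e1 := hC2 (Pi.single i0 ((a / κ) / γ₂))
    rw [hpm, mul_div_cancel₀ a hκ] at e1
    rw [hθ]
    simp only
    rw [e1, Pi.single_eq_same]
  have θadd : ∀ a b, θ (a + b) = θ a + θ b := by
    intro a b
    change h (Pi.single i0 (a + b)) i0 = _
    rw [Pi.single_add, hadd', Pi.add_apply]
  have θ0 : θ 0 = 0 := by
    have h := θadd 0 0
    rw [add_zero] at h
    exact left_eq_add.1 h
  have sτ : ∀ a : F, (fun j => τ ((Pi.single i0 a : Fin m → F) j)) = Pi.single i0 (τ a) := by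
    intro a
    funext j
    by_cases hj : j = i0
    · rw [hj, Pi.single_eq_same, Pi.single_eq_same]
    · rw [Pi.single_eq_of_ne hj, Pi.single_eq_of_ne hj, map_zero]
  have θτ : ∀ a, θ (τ a) = τ (θ a) := by
    intro a
    have e1 := hτ (Pi.single i0 a)
    rw [sτ, hsin, hsin, sτ] at e1
    have e2 := congrFun e1 i0
    rwa [Pi.single_eq_same, Pi.single_eq_same] at e2
  have hC4 : ∀ x, θ (κ' * x i0) = κ' * h x i0 := by
    intro x
    have e1 := (hC x 0 0).1
    rw [f4x, h00, k00, f4x, sτ, sτ, hM, hsin] at e1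
    have e2 := congrFun e1 i0
    rw [pm_zero hi0, pm_zero hi0] at e2
    have e3 := mul_left_cancel₀ hγ₂ e2
    rw [θτ] at e3
    exact τ.injective e3
  have θκ' : ∀ a, θ (κ' * a) = κ' * θ a := by
    intro a
    have e1 := hC4 (Pi.single i0 a)
    rwa [Pi.single_eq_same] at e1
  have hx0 : ∀ x, h x i0 = θ (x i0) := by
    intro x
    have e1 := hC4 x
    rw [θκ'] at e1
    exact (mul_left_cancel₀ hκ' e1).symm
  have θκ : ∀ a, θ (κ * a) = κ * θ a := by
    intro a
    have e1 := hC2 (Pi.single i0 (a / γ₂))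
    rw [hx0, hpm, hsin] at e1
    have e2 := congrFun e1 i0
    rwa [Pi.single_eq_same, Pi.single_eq_same] at e2
  have θγ₂ : ∀ a, θ (γ₂ * a) = γ₂ * θ a := by
    intro a
    have e1 := congrFun (hM (Pi.single i0 a)) i0
    rw [hx0, pm_zero hi0, hsin, pm_zero hi0] at e1
    exact e1
  have θpm : ∀ i j a, θ (pm m γ₂ i j * a) = pm m γ₂ i j * θ a := by
    intro i j a
    unfold pm
    split_ifs
    · exact θγ₂ a
    · rw [zero_mul, zero_mul, θ0]
    · rw [one_mul, one_mul]
    · rw [zero_mul, zero_mul, θ0]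
  have θsum : ∀ (s : Finset (Fin m)) (x : Fin m → F), θ (∑ j ∈ s, x j) = ∑ j ∈ s, θ (x j) := by
    intro s x
    let θ' : F →+ F := AddMonoidHom.mk' θ θadd
    exact map_sum θ' x s
  have hcoord : ∀ n : ℕ, ∀ (hn : n < m) (x : Fin m → F), h x ⟨n, hn⟩ = θ (x ⟨n, hn⟩) := by
    intro n
    induction n using Nat.strong_induction_on with
    | _ n ih =>
      intro hn x
      rcases Nat.eq_zero_or_pos n with h0 | h0
      · subst h0
        have : (⟨0, hn⟩ : Fin m) = i0 := Fin.ext hi0.symm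
        rw [this]
        exact hx0 x
      · obtain ⟨l, rfl⟩ : ∃ l, n = l + 1 := ⟨n - 1, by omega⟩
        have hl : l < m := by omega
        have e1 := congrFun (hM x) ⟨l, hl⟩
        rw [ih l (by omega) hl] at e1
        have e2 : θ ((pm m γ₂).mulVec x ⟨l, hl⟩) = ∑ j, pm m γ₂ ⟨l, hl⟩ j * θ (x j) := by
          change θ (∑ j, pm m γ₂ ⟨l, hl⟩ j * x j) = _
          rw [θsum]
          exact Finset.sum_congr rfl fun j _ => θpm _ _ _
        have e3 : (pm m γ₂).mulVec (h x) ⟨l, hl⟩ = ∑ j, pm m γ₂ ⟨l, hl⟩ j * h x j := rfl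
        rw [e2, e3] at e1
        have e4 : ∑ j, pm m γ₂ ⟨l, hl⟩ j * (h x j - θ (x j)) = 0 := by
          simp_rw [mul_sub]
          rw [Finset.sum_sub_distrib, ← e1, sub_self]
        rw [Finset.sum_eq_single (⟨l + 1, hn⟩ : Fin m)] at e4
        · have e5 : pm m γ₂ ⟨l, hl⟩ ⟨l + 1, hn⟩ = 1 := by
            unfold pm
            rw [if_neg (by intro h; have := congrArg Fin.val h; simp at this), if_pos (Or.inl rfl)]
          rw [e5, one_mul] at e4
          exact sub_eq_zero.1 e4
        · intro j _ hj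
          by_cases hjl : j.val ≤ l
          · rw [ih j.val (by omega) j.2 x, sub_self, mul_zero]
          · have e5 : pm m γ₂ ⟨l, hl⟩ j = 0 := by
              unfold pm
              have hj' : j.val ≠ l + 1 := fun h => hj (Fin.ext h)
              rw [if_neg (by intro h; have := congrArg Fin.val h; simp at this; omega),
                if_neg (by simp only; omega)]
            rw [e5, zero_mul]
        · intro hcon
          exact absurd (Finset.mem_univ _) hcon
  have hall : ∀ x, h x = fun j => θ (x j) := fun x => funext fun j => hcoord j.val j.2 x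
  have kall : ∀ a, k a = fun j => θ (a j) := by
    intro a
    funext j
    have hj : ∀ i : Fin ε, i = j := fun i => Fin.ext (by have := i.2; have := j.2; omega)
    have ha : a = fun _ => (pm m γ₂).mulVec (Pi.single i0 (a j / γ₂)) i0 := by
      funext i
      rw [hj i, hpm]
    conv_lhs => rw [ha]
    rw [hC3]
    simp only
    rw [hx0, hpm]
  have θγ : ∀ a, θ (γ * a) = γ * θ a := by
    rcases hγ' with h | h
    · rw [h]; exact θκ
    · rw [h]; exact θγ₂
  have θlin : ∀ a, θ a = θ 1 * a := by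
    intro a
    rcases eq_or_ne a 0 with rfl | ha
    · rw [θ0, mul_zero]
    · obtain ⟨n, rfl⟩ := hγ a ha
      clear ha
      induction n with
      | zero => rw [pow_zero, mul_one]
      | succ n ih => rw [pow_succ', θγ, ih]; ring
  refine ⟨θ 1, ?_, ?_⟩
  · rw [← θτ, map_one]
  · rintro ⟨x, x', a⟩
    rw [gen, hall, hall, kall]
    refine Prod.ext (funext fun j => θlin _) (Prod.ext (funext fun j => θlin _) (funext fun j => θlin _))

end

end Cfsg.Agent.H510.BF
end

-- part: H762/FC/Witt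
section
/-!
# Witt decomposition of a non-degenerate skew-hermitian (or alternating) form over a finite field (helper762)

For S5764, [B-C3] (helper510): `witt`.
-/

set_option autoImplicit false

namespace Cfsg.Agent.H762.FC

universe u v

section field

variable {F : Type u} [Field F] (ν : F ≃+* F)

/-- `κ - ν κ = δ` is solvable for skew `δ` -/
theorem exists_sub (hν : ∀ a, ν (ν a) = a) (hne : ∃ a, ν a ≠ a) {δ : F} (hδ : ν δ = -δ) : ∃ κ : F, κ - ν κ = δ := by
  have key : ∃ a : F, a + ν a ≠ 0 := by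
    by_contra hcon
    push Not at hcon
    obtain ⟨a, ha⟩ := hne
    have h1 : (1 : F) + 1 = 0 := by simpa using hcon 1
    apply ha
    have h2 : ν a = -a := by
      have := hcon a
      exact eq_neg_of_add_eq_zero_right this
    have h3 : -a = a := by
      have : a + a = 0 := by
        have : a + a = (1 + 1) * a := by ring
        rw [this, h1, zero_mul]
      exact neg_eq_of_add_eq_zero_left this
    rw [h2, h3]
  obtain ⟨a, ha⟩ := key
  refine ⟨δ * (a / (a + ν a)), ?_⟩
  have h1 : ν (a + ν a) = a + ν a := by rw [map_add, hν]; ring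
  rw [map_mul, map_div₀, h1, hδ]
  field_simp
  ring

/-- the norm `a ↦ a ν(a)` is surjective onto the fixed field -/
theorem exists_norm [Finite F] (hν : ∀ a, ν (ν a) = a) (hne : ∃ a, ν a ≠ a) {t : F} (ht : ν t = t) :
    ∃ a : F, a * ν a = t := by
  by_cases ht0 : t = 0
  · exact ⟨0, by simp [ht0]⟩
  let n : Fˣ →* Fˣ := Units.map (ν : F →* F)
  have hn : ∀ a : Fˣ, ((n a : Fˣ) : F) = ν a := fun a => rfl
  let N : Fˣ →* Fˣ :=
    { toFun := fun a => a * n a
      map_one' := by simp
      map_mul' := fun a b => by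
        rw [map_mul]
        exact mul_mul_mul_comm a b (n a) (n b) }
  let D : Fˣ →* Fˣ :=
    { toFun := fun a => a * (n a)⁻¹
      map_one' := by simp
      map_mul' := fun a b => by
        rw [map_mul, mul_inv]
        exact mul_mul_mul_comm a b (n a)⁻¹ (n b)⁻¹ }
  have hN : ∀ a, N a = a * n a := fun a => rfl
  have hD : ∀ a, D a = a * (n a)⁻¹ := fun a => rfl
  have hnn : ∀ a, n (n a) = a := fun a => Units.ext (hν _)
  -- Hilbert 90
  have h90 : N.ker ≤ D.range := by
    intro a ha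
    rw [MonoidHom.mem_ker, hN] at ha
    have ha' : (a : F) * ν a = 1 := by
      have := congrArg (fun z : Fˣ => (z : F)) ha
      simpa [hn] using this
    obtain ⟨c, hc⟩ : ∃ c : F, c + a * ν c ≠ 0 := by
      by_contra hcon
      push Not at hcon
      obtain ⟨b, hb⟩ := hne
      have h1 : (1 : F) + a = 0 := by simpa using hcon 1
      have h2 : (a : F) = -1 := eq_neg_of_add_eq_zero_right h1
      have h3 := hcon b
      rw [h2] at h3
      apply hb
      have : b = ν b := by linear_combination h3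
      exact this.symm
    refine ⟨Units.mk0 _ hc, ?_⟩
    rw [hD, mul_inv_eq_iff_eq_mul]
    apply Units.ext
    rw [Units.val_mk0, Units.val_mul, hn, Units.val_mk0, map_add, map_mul, hν]
    linear_combination (-c) * ha'
  have hDk : N.range ≤ D.ker := by
    rintro _ ⟨a, rfl⟩
    rw [MonoidHom.mem_ker, hD, hN, map_mul, hnn, mul_comm (n a) a, mul_inv_cancel]
  have c1 : Nat.card N.range * Nat.card N.ker = Nat.card Fˣ := by
    rw [mul_comm, ← Subgroup.index_ker N]
    exact Subgroup.card_mul_index _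
  have c2 : Nat.card D.range * Nat.card D.ker = Nat.card Fˣ := by
    rw [mul_comm, ← Subgroup.index_ker D]
    exact Subgroup.card_mul_index _
  have c3 : Nat.card N.ker ≤ Nat.card D.range := Nat.card_le_card_of_injective _ (Subgroup.inclusion_injective h90)
  have c4 : Nat.card D.ker ≤ Nat.card N.range := by
    by_contra hlt
    push Not at hlt
    have hp : 0 < Nat.card N.ker := Nat.card_pos
    have : Nat.card N.range * Nat.card N.ker < Nat.card D.range * Nat.card D.ker := by
      calc Nat.card N.range * Nat.card N.ker < Nat.card D.ker * Nat.card N.ker :=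
            Nat.mul_lt_mul_of_pos_right hlt hp
        _ ≤ Nat.card D.ker * Nat.card D.range := Nat.mul_le_mul_left _ c3
        _ = _ := mul_comm _ _
    omega
  have heq : N.range = D.ker := Subgroup.eq_of_le_of_card_ge hDk c4
  have hmem : Units.mk0 t ht0 ∈ D.ker := by
    rw [MonoidHom.mem_ker, hD, mul_inv_eq_one]
    apply Units.ext
    rw [hn, Units.val_mk0, ht]
  rw [← heq] at hmem
  obtain ⟨a, ha⟩ := hmem
  refine ⟨a, ?_⟩
  have := congrArg (fun z : Fˣ => (z : F)) ha
  simpa [hN, hn] using this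

end field

section form

variable {F : Type u} [Field F] {V : Type v} [AddCommGroup V] [Module F V]

/-- non-degenerate skew-hermitian or alternating -/
structure Sk (ν : F ≃+* F) (B : V → V → F) : Prop where
  invol : ∀ a, ν (ν a) = a
  add_left : ∀ v v' w, B (v + v') w = B v w + B v' w
  add_right : ∀ v w w', B v (w + w') = B v w + B v w'
  smul_left : ∀ (a : F) v w, B (a • v) w = a * B v w
  smul_right : ∀ (a : F) v w, B v (a • w) = ν a * B v w
  skew : ∀ v w, B w v = -ν (B v w)
  nondeg : ∀ v, (∀ w, B v w = 0) → v = 0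
  alt : (∀ a, ν a = a) → ∀ v, B v v = 0

variable {ν : F ≃+* F} {B : V → V → F}

namespace Sk

theorem zero_left (h : Sk ν B) (w : V) : B 0 w = 0 := by
  have := h.smul_left 0 0 w
  simpa using this

theorem zero_right (h : Sk ν B) (w : V) : B w 0 = 0 := by
  have := h.smul_right 0 w 0
  simpa using this

theorem neg_left (h : Sk ν B) (v w : V) : B (-v) w = -B v w := by
  have := h.smul_left (-1) v w
  simpa using this

theorem neg_right (h : Sk ν B) (v w : V) : B v (-w) = -B v w := by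
  have := h.smul_right (-1) v w
  simpa using this

theorem sub_left (h : Sk ν B) (v v' w : V) : B (v - v') w = B v w - B v' w := by
  rw [sub_eq_add_neg, h.add_left, h.neg_left, sub_eq_add_neg]

theorem sub_right (h : Sk ν B) (v w w' : V) : B v (w - w') = B v w - B v w' := by
  rw [sub_eq_add_neg, h.add_right, h.neg_right, sub_eq_add_neg]

theorem sum_left (h : Sk ν B) {ι : Type*} (s : Finset ι) (f : ι → V) (w : V) :
    B (∑ i ∈ s, f i) w = ∑ i ∈ s, B (f i) w := by
  classical
  induction s using Finset.induction_on with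
  | empty => simp [h.zero_left]
  | insert a s ha ih => rw [Finset.sum_insert ha, Finset.sum_insert ha, h.add_left, ih]

theorem sum_right (h : Sk ν B) {ι : Type*} (s : Finset ι) (f : ι → V) (w : V) :
    B w (∑ i ∈ s, f i) = ∑ i ∈ s, B w (f i) := by
  classical
  induction s using Finset.induction_on with
  | empty => simp [h.zero_right]
  | insert a s ha ih => rw [Finset.sum_insert ha, Finset.sum_insert ha, h.add_right, ih]

theorem perp (h : Sk ν B) {v w : V} (hv : B v w = 0) : B w v = 0 := by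
  rw [h.skew v w, hv, map_zero, neg_zero]

theorem self_skew (h : Sk ν B) (v : V) : ν (B v v) = -B v v := by
  have := h.skew v v
  rw [eq_neg_iff_add_eq_zero] at this ⊢
  rw [add_comm]
  exact this

/-- correction of the second member of a hyperbolic pair -/
theorem exists_corr (h : Sk ν B) (w : V) : ∃ c : F, c - ν c = -B w w := by
  by_cases hne : ∃ a, ν a ≠ a
  · refine exists_sub ν h.invol hne ?_
    rw [map_neg, h.self_skew w]
  · push Not at hne
    exact ⟨0, by rw [h.alt hne w]; simp⟩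

end Sk

/-- hyperbolic pairs -/
def Hyp (B : V → V → F) (m : ℕ) (e e' : Fin m → V) : Prop :=
  (∀ i j, B (e i) (e j) = 0) ∧ (∀ i j, B (e' i) (e' j) = 0) ∧ (∀ i j, B (e i) (e' j) = if i = j then 1 else 0)

theorem Hyp.le (h : Sk ν B) [Module.Finite F V] {m : ℕ} {e e' : Fin m → V} (H : Hyp B m e e') :
    m ≤ Module.finrank F V := by
  have hli : LinearIndependent F e := by
    rw [Fintype.linearIndependent_iff]
    intro g hg i
    have h1 : B (∑ j, g j • e j) (e' i) = 0 := by rw [hg, h.zero_left]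
    rw [h.sum_left] at h1
    have h2 : ∀ j, B (g j • e j) (e' i) = if j = i then g i else 0 := by
      intro j
      rw [h.smul_left, H.2.2]
      split_ifs with hji
      · rw [hji, mul_one]
      · rw [mul_zero]
    simp only [h2] at h1
    simpa using h1
  simpa using hli.fintype_card_le_finrank

theorem Hyp.cons (h : Sk ν B) {m : ℕ} {e e' : Fin m → V} (H : Hyp B m e e') {u w : V} (huu : B u u = 0)
    (hww : B w w = 0) (huw : B u w = 1) (hu : ∀ i, B u (e i) = 0) (hu' : ∀ i, B u (e' i) = 0)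
    (hw : ∀ i, B w (e i) = 0) (hw' : ∀ i, B w (e' i) = 0) :
    Hyp B (m + 1) (Fin.cons u e) (Fin.cons w e') := by
  refine ⟨fun i j => ?_, fun i j => ?_, fun i j => ?_⟩
  · refine Fin.cases ?_ (fun i => ?_) i <;> refine Fin.cases ?_ (fun j => ?_) j
    · simpa using huu
    · simpa using hu j
    · simpa using h.perp (hu i)
    · simpa using H.1 i j
  · refine Fin.cases ?_ (fun i => ?_) i <;> refine Fin.cases ?_ (fun j => ?_) j
    · simpa using hww
    · simpa using hw' j
    · simpa using h.perp (hw' i)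
    · simpa using H.2.1 i j
  · refine Fin.cases ?_ (fun i => ?_) i <;> refine Fin.cases ?_ (fun j => ?_) j
    · simpa using huw
    · have := hu' j
      simpa [Fin.ext_iff] using this
    · have := h.perp (hw i)
      simpa [Fin.ext_iff] using this
    · have := H.2.2 i j
      simpa [Fin.ext_iff] using this

/-- the projection to the orthogonal complement -/
def pr (B : V → V → F) {m : ℕ} (e e' : Fin m → V) (v : V) : V :=
  v - ∑ i, B v (e' i) • e i + ∑ i, B v (e i) • e' i

theorem Hyp.flip (h : Sk ν B) {m : ℕ} {e e' : Fin m → V} (H : Hyp B m e e') (i j : Fin m) :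
    B (e' i) (e j) = if i = j then -1 else 0 := by
  rw [h.skew (e j) (e' i), H.2.2]
  by_cases hij : i = j
  · subst hij; simp
  · rw [if_neg hij, if_neg (Ne.symm hij)]; simp

theorem pr_left (h : Sk ν B) {m : ℕ} {e e' : Fin m → V} (H : Hyp B m e e') (v : V) (j : Fin m) :
    B (pr B e e' v) (e j) = 0 := by
  unfold pr
  rw [h.add_left, h.sub_left, h.sum_left, h.sum_left]
  simp only [h.smul_left, H.1, H.flip h]
  simp

theorem pr_right (h : Sk ν B) {m : ℕ} {e e' : Fin m → V} (H : Hyp B m e e') (v : V) (j : Fin m) :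
    B (pr B e e' v) (e' j) = 0 := by
  unfold pr
  rw [h.add_left, h.sub_left, h.sum_left, h.sum_left]
  simp only [h.smul_left, H.2.1, H.2.2]
  simp

theorem pr_perp (h : Sk ν B) {m : ℕ} {e e' : Fin m → V} {u : V} (hu : ∀ i, B u (e i) = 0)
    (hu' : ∀ i, B u (e' i) = 0) (v : V) : B u (pr B e e' v) = B u v := by
  unfold pr
  rw [h.add_right, h.sub_right, h.sum_right, h.sum_right]
  simp only [h.smul_right, hu, hu']
  simp

/-- an isotropic vector orthogonal to a maximal hyperbolic family is zero -/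
theorem max_aniso (h : Sk ν B) {m : ℕ} {e e' : Fin m → V} (H : Hyp B m e e')
    (hmax : ¬ ∃ f f' : Fin (m + 1) → V, Hyp B (m + 1) f f') {u : V} (huu : B u u = 0) (hu : ∀ i, B u (e i) = 0)
    (hu' : ∀ i, B u (e' i) = 0) : u = 0 := by
  by_contra hu0
  obtain ⟨v, hv⟩ : ∃ v, B u v ≠ 0 := by
    by_contra hcon
    push Not at hcon
    exact hu0 (h.nondeg u hcon)
  -- `w` in the complement with `B u w = 1`
  obtain ⟨w, h1, h2, h3⟩ : ∃ w, B u w = 1 ∧ (∀ i, B w (e i) = 0) ∧ ∀ i, B w (e' i) = 0 := by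
    refine ⟨ν (B u v)⁻¹ • pr B e e' v, ?_, fun i => ?_, fun i => ?_⟩
    · rw [h.smul_right, pr_perp h hu hu', h.invol, inv_mul_cancel₀ hv]
    · rw [h.smul_left, pr_left h H, mul_zero]
    · rw [h.smul_left, pr_right h H, mul_zero]
  obtain ⟨c, hc⟩ := h.exists_corr w
  apply hmax
  refine ⟨Fin.cons u e, Fin.cons (w + c • u) e', H.cons h huu ?_ ?_ hu hu' ?_ ?_⟩
  · rw [h.add_left, h.add_right, h.add_right, h.smul_left, h.smul_left, h.smul_right, h.smul_right, huu, h1,
      h.skew u w, h1, map_one]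
    linear_combination hc
  · rw [h.add_right, h.smul_right, huu, h1]; simp
  · intro i
    rw [h.add_left, h.smul_left, h2, hu]; simp
  · intro i
    rw [h.add_left, h.smul_left, h3, hu']; simp

theorem exists_max (h : Sk ν B) [Module.Finite F V] :
    ∃ (m : ℕ) (e e' : Fin m → V), Hyp B m e e' ∧ ¬ ∃ f f' : Fin (m + 1) → V, Hyp B (m + 1) f f' := by
  by_contra hcon
  push Not at hcon
  have key : ∀ m : ℕ, ∃ e e' : Fin m → V, Hyp B m e e' := by
    intro m
    induction m with
    | zero => exact ⟨fun _ => 0, fun _ => 0, fun i => i.elim0, fun i => i.elim0, fun i => i.elim0⟩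
    | succ m ih =>
      obtain ⟨e, e', H⟩ := ih
      exact hcon m e e' H
  obtain ⟨e, e', H⟩ := key (Module.finrank F V + 1)
  have := H.le h
  omega

/-- **The vectors of the Witt decomposition.** -/
theorem witt_vec [Finite F] [Module.Finite F V] (h : Sk ν B) :
    ∃ (m ε : ℕ) (δ : F) (e e' : Fin m → V) (c : Fin ε → V), ε ≤ 1 ∧ ν δ = -δ ∧
      (ε = 1 → δ ≠ 0 ∧ ∃ a, ν a ≠ a) ∧ Hyp B m e e' ∧
      (∀ i j, B (c i) (c j) = if i = j then δ else 0) ∧ (∀ i j, B (c i) (e j) = 0) ∧ (∀ i j, B (c i) (e' j) = 0) ∧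
      ∀ v : V, ∃ a : Fin ε → F, pr B e e' v = ∑ i, a i • c i := by
  obtain ⟨m, e, e', H, hmax⟩ := exists_max h
  by_cases hW : ∀ w : V, (∀ i, B w (e i) = 0) → (∀ i, B w (e' i) = 0) → w = 0
  · refine ⟨m, 0, 0, e, e', fun _ => 0, Nat.zero_le _, by simp, fun h0 => absurd h0 (by norm_num), H,
      fun i => i.elim0, fun i => i.elim0, fun i => i.elim0, fun v => ⟨fun _ => 0, ?_⟩⟩
    rw [hW _ (pr_left h H v) (pr_right h H v)]
    simp
  · push Not at hW
    obtain ⟨c, hc1, hc2, hc0⟩ := hW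
    have hcc : B c c ≠ 0 := fun h0 => hc0 (max_aniso h H hmax h0 hc1 hc2)
    have hne : ∃ a, ν a ≠ a := by
      by_contra hcon
      push Not at hcon
      exact hcc (h.alt hcon c)
    refine ⟨m, 1, B c c, e, e', fun _ => c, le_refl _, h.self_skew c, fun _ => ⟨hcc, hne⟩, H, fun i j => ?_,
      fun _ => hc1, fun _ => hc2, fun v => ?_⟩
    · rw [if_pos (Subsingleton.elim i j)]
    · set w := pr B e e' v with hw
      have hw1 : ∀ i, B w (e i) = 0 := pr_left h H v
      have hw2 : ∀ i, B w (e' i) = 0 := pr_right h H v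
      refine ⟨fun _ => B w c / B c c, ?_⟩
      rw [Fin.sum_univ_one]
      set w₁ := w - (B w c / B c c) • c with hw₁
      have h1 : B w₁ c = 0 := by
        rw [hw₁, h.sub_left, h.smul_left, div_mul_cancel₀ _ hcc, sub_self]
      have h2 : ∀ i, B w₁ (e i) = 0 := fun i => by rw [hw₁, h.sub_left, h.smul_left, hw1, hc1]; simp
      have h3 : ∀ i, B w₁ (e' i) = 0 := fun i => by rw [hw₁, h.sub_left, h.smul_left, hw2, hc2]; simp
      have h4 : w₁ = 0 := by
        by_contra h0
        have h5 : B w₁ w₁ ≠ 0 := fun h6 => h0 (max_aniso h H hmax h6 h2 h3)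
        obtain ⟨a, ha⟩ := exists_norm ν h.invol hne (t := -(B w₁ w₁ / B c c)) (by
          rw [map_neg, map_div₀, h.self_skew, h.self_skew, neg_div_neg_eq])
        have ha0 : a ≠ 0 := by
          rintro rfl
          rw [zero_mul] at ha
          have := neg_eq_zero.1 ha.symm
          rw [div_eq_zero_iff] at this
          exact this.elim h5 hcc
        have h6 : w₁ + a • c = 0 := by
          refine max_aniso h H hmax ?_ ?_ ?_
          · rw [h.add_left, h.add_right, h.add_right, h.smul_left, h.smul_left, h.smul_right, h.smul_right, h1,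
              h.perp h1]
            have : a * (ν a * B c c) = -(B w₁ w₁) := by
              rw [← mul_assoc, ha]
              field_simp
            rw [this]
            ring
          · intro i; rw [h.add_left, h.smul_left, h2, hc1]; simp
          · intro i; rw [h.add_left, h.smul_left, h3, hc2]; simp
        have h7 : B (w₁ + a • c) c = a * B c c := by
          rw [h.add_left, h.smul_left, h1, zero_add]
        rw [h6, h.zero_left] at h7
        exact mul_ne_zero ha0 hcc h7.symm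
      rw [hw₁, sub_eq_zero] at h4
      exact h4

/-- **The Witt decomposition.** -/
theorem witt [Finite F] [Module.Finite F V] (ν : F ≃+* F) (hν : ∀ a, ν (ν a) = a) (B : V → V → F)
    (add_left : ∀ v v' w, B (v + v') w = B v w + B v' w) (add_right : ∀ v w w', B v (w + w') = B v w + B v w')
    (smul_left : ∀ (a : F) v w, B (a • v) w = a * B v w) (smul_right : ∀ (a : F) v w, B v (a • w) = ν a * B v w)
    (skew : ∀ v w, B w v = -ν (B v w)) (nondeg : ∀ v, (∀ w, B v w = 0) → v = 0)
    (alt : (∀ a, ν a = a) → ∀ v, B v v = 0) :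
    ∃ (m ε : ℕ) (δ : F) (Φ : ((Fin m → F) × (Fin m → F) × (Fin ε → F)) ≃ₗ[F] V), ε ≤ 1 ∧ ν δ = -δ ∧
      (ε = 1 → δ ≠ 0 ∧ ∃ a, ν a ≠ a) ∧
      ∀ x x' a y y' b, B (Φ (x, x', a)) (Φ (y, y', b)) =
        ∑ i, x i * ν (y' i) - ∑ i, x' i * ν (y i) + δ * ∑ i, a i * ν (b i) := by
  have h : Sk ν B := ⟨hν, add_left, add_right, smul_left, smul_right, skew, nondeg, alt⟩
  obtain ⟨m, ε, δ, e, e', c, hε, hδ, hδ', H, hcc, hce, hce', hpr⟩ := witt_vec h
  let Ψ : ((Fin m → F) × (Fin m → F) × (Fin ε → F)) →ₗ[F] V :=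
    (Fintype.linearCombination F e).coprod
      ((Fintype.linearCombination F e').coprod (Fintype.linearCombination F c))
  have hΨ : ∀ x x' a, Ψ (x, x', a) = ∑ i, x i • e i + (∑ i, x' i • e' i + ∑ i, a i • c i) := by
    intro x x' a
    simp [Ψ, Fintype.linearCombination_apply]
  have gl : ∀ x x' a w, B (Ψ (x, x', a)) w = ∑ i, x i * B (e i) w + (∑ i, x' i * B (e' i) w + ∑ i, a i * B (c i) w) := by
    intro x x' a w
    rw [hΨ, h.add_left, h.add_left, h.sum_left, h.sum_left, h.sum_left]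
    simp only [h.smul_left]
  have gr : ∀ y y' b w, B w (Ψ (y, y', b)) = ∑ i, ν (y i) * B w (e i) + (∑ i, ν (y' i) * B w (e' i) + ∑ i, ν (b i) * B w (c i)) := by
    intro y y' b w
    rw [hΨ, h.add_right, h.add_right, h.sum_right, h.sum_right, h.sum_right]
    simp only [h.smul_right]
  have r1 : ∀ y y' b i, B (e i) (Ψ (y, y', b)) = ν (y' i) := by
    intro y y' b i
    rw [gr]
    simp only [H.1, H.2.2, h.perp (hce _ _)]
    simp
  have r2 : ∀ y y' b i, B (e' i) (Ψ (y, y', b)) = -ν (y i) := by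
    intro y y' b i
    rw [gr]
    simp only [H.flip h, H.2.1, h.perp (hce' _ _)]
    simp
  have r3 : ∀ y y' b i, B (c i) (Ψ (y, y', b)) = δ * ν (b i) := by
    intro y y' b i
    rw [gr]
    simp only [hce, hce', hcc]
    simp [mul_comm]
  have gram : ∀ x x' a y y' b, B (Ψ (x, x', a)) (Ψ (y, y', b)) =
      ∑ i, x i * ν (y' i) - ∑ i, x' i * ν (y i) + δ * ∑ i, a i * ν (b i) := by
    intro x x' a y y' b
    rw [gl]
    simp only [r1, r2, r3]
    rw [Finset.mul_sum]
    have e1 : ∑ i, x' i * -ν (y i) = -∑ i, x' i * ν (y i) := by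
      rw [← Finset.sum_neg_distrib]
      exact Finset.sum_congr rfl fun i _ => by ring
    have e2 : ∑ i, a i * (δ * ν (b i)) = ∑ i, δ * (a i * ν (b i)) :=
      Finset.sum_congr rfl fun i _ => by ring
    rw [e1, e2]
    ring
  have hinj : Function.Injective Ψ := by
    rw [injective_iff_map_eq_zero]
    rintro ⟨y, y', b⟩ h0
    have h1 : y' = 0 := by
      funext i
      have := r1 y y' b i
      rw [h0, h.zero_right] at this
      exact (map_eq_zero_iff ν ν.injective).1 this.symm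
    have h2 : y = 0 := by
      funext i
      have := r2 y y' b i
      rw [h0, h.zero_right] at this
      exact (map_eq_zero_iff ν ν.injective).1 (neg_eq_zero.1 this.symm)
    have h3 : b = 0 := by
      funext i
      have := r3 y y' b i
      rw [h0, h.zero_right] at this
      have hε1 : ε = 1 := by
        have := i.2
        omega
      have hδ0 := (hδ' hε1).1
      rcases mul_eq_zero.1 this.symm with h4 | h4
      · exact absurd h4 hδ0
      · exact (map_eq_zero_iff ν ν.injective).1 h4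
    rw [h1, h2, h3]
    rfl
  have hsurj : Function.Surjective Ψ := by
    intro v
    obtain ⟨a, ha⟩ := hpr v
    refine ⟨(fun i => B v (e' i), fun i => -B v (e i), a), ?_⟩
    rw [hΨ, ← ha]
    unfold pr
    have : ∑ i, (fun i => -B v (e i)) i • e' i = -∑ i, B v (e i) • e' i := by
      rw [← Finset.sum_neg_distrib]
      exact Finset.sum_congr rfl fun i _ => by simp
    rw [this]
    abel
  refine ⟨m, ε, δ, LinearEquiv.ofBijective Ψ ⟨hinj, hsurj⟩, hε, hδ, hδ', fun x x' a y y' b => ?_⟩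
  exact gram x x' a y y' b

end form

end Cfsg.Agent.H762.FC
end

-- part: H510/BF/Main
section
/-!
# S5764, StmtBC3 for `s = n / e ≥ 2`
-/

set_option autoImplicit false

namespace Cfsg.Agent.H510.BF

open Cfsg.Agent.H198.FC

universe u v w

section

variable {K : Type u} [Field K] [Finite K] {V : Type v} [AddCommGroup V] [Module K V] [Module.Finite K V]
  {F : Type w} [Field F] [Finite F] [Algebra K F] [Module F V] [IsScalarTower K F V]

theorem pm_fr {m : ℕ} (ν : F ≃+* F) {g : F} (hg : fr K F 1 (ν g) = g) (k l : Fin m) :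
    pm m g l k = fr K F 1 (ν (pm m g k l)) := by
  rw [pm_symm]
  unfold pm
  split_ifs
  · exact hg.symm
  · rw [map_zero, map_zero]
  · rw [map_one, map_one]
  · rw [map_zero, map_zero]

theorem core [Nontrivial V] (b : Cl K V) (he : (Module.finrank K F).Prime)
    (hadj : ∀ α : F, ∃ β : F, ∀ v w, b.B (α • v) w = b.B v (β • w))
    (hs : 2 * Module.finrank K F ≤ Module.finrank K V) (S : Subgroup (Equiv.Perm (R K V))) (hS : S ≤ RB b)
    (hSE : ∀ f ∈ S, ∀ a : F, ∃ a' : F, f (mu K V a) = mu K V a') : FiveB b S := by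
  classical
  obtain ⟨ν, B, c, hB⟩ := exists_form b hadj
  haveI : Module.Finite F V := Module.Finite.of_restrictScalars_finite K F V
  obtain ⟨m, ε, δ, Φ, hε, hδ, hδ1, hG⟩ := Cfsg.Agent.H762.FC.witt ν hB.invol B hB.add_left hB.add_right hB.smul_left
    hB.smul_right hB.skew hB.nondeg hB.alt
  -- `m ≥ 1`
  have hm : 0 < m := by
    have h1 := Module.finrank_mul_finrank K F V
    have h2 : Module.finrank F V = m + (m + ε) := by
      rw [← Φ.finrank_eq, Module.finrank_prod, Module.finrank_prod, Module.finrank_fin_fun, Module.finrank_fin_fun]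
    have h3 : 2 ≤ Module.finrank F V := by
      have h4 : Module.finrank K F * 2 ≤ Module.finrank K F * Module.finrank F V := by
        rw [h1, mul_comm]; exact hs
      exact Nat.le_of_mul_le_mul_left h4 he.pos
    omega
  set i0 : Fin m := ⟨0, hm⟩ with hi0
  obtain ⟨γ, hγ⟩ := exists_gen (F := F)
  have hγ0 : γ ≠ 0 := by
    intro h0
    obtain ⟨t, ht0, ht1⟩ : ∃ t : F, t ≠ 0 ∧ t ≠ 1 := by
      by_contra hcon
      push Not at hcon
      letI := Fintype.ofFinite F
      letI := Fintype.ofFinite K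
      have h1 : Fintype.card F ≤ 2 := by
        rw [← Finset.card_univ]
        refine (Finset.card_le_card (t := {(0 : F), 1}) fun x _ => ?_).trans Finset.card_le_two
        rcases eq_or_ne x 0 with rfl | hx
        · simp
        · rw [hcon x hx]; simp
      rw [Module.card_eq_pow_finrank (K := K) (V := F)] at h1
      have h2 : 2 ≤ Fintype.card K := Fintype.one_lt_card
      have h3 : 2 ^ 2 ≤ Fintype.card K ^ Module.finrank K F :=
        (Nat.pow_le_pow_left h2 2).trans (Nat.pow_le_pow_right (by omega) he.two_le)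
      omega
    obtain ⟨k, hk⟩ := hγ t ht0
    rw [h0] at hk
    rcases Nat.eq_zero_or_pos k with hk0 | hk0
    · rw [hk0, pow_zero] at hk; exact ht1 hk
    · rw [zero_pow (by omega)] at hk; exact ht0 hk
  -- the parameters
  obtain ⟨κ, γ₂, hκ, hγ₂, hκδ, hor, hM⟩ : ∃ κ γ₂ : F, κ ≠ 0 ∧ γ₂ ≠ 0 ∧ κ - ν κ = δ * ∑ _i : Fin ε, (1 : F) ∧
      (γ = κ ∨ γ = γ₂) ∧ (Module.finrank K F = 2 → fr K F 1 (ν γ₂) = γ₂) := by
    by_cases h1 : Module.finrank K F = 2 ∧ ∀ a, ν a = a
    · have hε0 : ε = 0 := by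
        by_contra hne
        obtain ⟨-, a, ha⟩ := hδ1 (by omega)
        exact ha (h1.2 a)
      subst hε0
      refine ⟨γ, 1, hγ0, one_ne_zero, ?_, Or.inl rfl, fun _ => by rw [map_one, map_one]⟩
      rw [h1.2, sub_self, Finset.univ_eq_empty, Finset.sum_empty, mul_zero]
    · have hfr : Module.finrank K F = 2 → fr K F 1 (ν γ) = γ := by
        intro h2
        rcases invol_two ν hB.invol h2 with h3 | h3
        · exact absurd ⟨h2, h3⟩ h1
        · rw [← h3, hB.invol]
      rcases (by omega : ε = 0 ∨ ε = 1) with h0 | h0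
      · subst h0
        refine ⟨1, γ, one_ne_zero, hγ0, ?_, Or.inr rfl, hfr⟩
        rw [map_one, sub_self, Finset.univ_eq_empty, Finset.sum_empty, mul_zero]
      · subst h0
        obtain ⟨hδ0, hne⟩ := hδ1 rfl
        obtain ⟨κ, hκ⟩ := Cfsg.Agent.H762.FC.exists_sub ν hB.invol hne hδ
        refine ⟨κ, γ, ?_, hγ0, ?_, Or.inr rfl, hfr⟩
        · rintro rfl
          rw [map_zero, sub_zero] at hκ
          exact hδ0 hκ.symm
        · rw [hκ, Fin.sum_univ_one, mul_one]
  have hκ' : ν κ ≠ 0 := (map_ne_zero ν).2 hκ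
  -- the elements
  have hone : ∀ k l : Fin m, (1 : Matrix (Fin m) (Fin m) F) l k = fr K F 1 (ν ((1 : Matrix (Fin m) (Fin m) F) k l)) := by
    intro k l
    rw [Matrix.one_apply, Matrix.one_apply]
    by_cases h : k = l
    · rw [if_pos h, if_pos h.symm, map_one, map_one]
    · rw [if_neg h, if_neg (Ne.symm h), map_zero, map_zero]
  have hw : ∀ v : V, Φ (Φ.symm v) = v := Φ.apply_symm_apply
  have gram : ∀ (ι : (Fin m → F) →ₗ[F] W F m ε) (φ : W F m ε →ₗ[F] (Fin m → F)),
      (∀ w x, B (Φ w) (Φ (ι x)) = ∑ k, φ w k * ν (x k)) →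
      ∀ (v : V) (x : Fin m → F), B v ((Φ.toLinearMap ∘ₗ ι) x) = ∑ k, (φ ∘ₗ Φ.symm.toLinearMap) v k * ν (x k) := by
    intro ι φ h v x
    have h1 := h (Φ.symm v) x
    rw [hw] at h1
    exact h1
  have zer : ∀ (ι : (Fin m → F) →ₗ[F] W F m ε) (φ : W F m ε →ₗ[F] (Fin m → F)), (∀ x, φ (ι x) = 0) →
      ∀ x : Fin m → F, (φ ∘ₗ Φ.symm.toLinearMap) ((Φ.toLinearMap ∘ₗ ι) x) = 0 := by
    intro ι φ h x
    change φ (Φ.symm (Φ (ι x))) = 0
    rw [Φ.symm_apply_apply, h]
  obtain ⟨x1, hd1, hx1, hf1⟩ := exists_elt hB he (gram i1 f1 (by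
      rintro ⟨x, x', a⟩ y
      change B (Φ (x, x', a)) (Φ (y, 0, 0)) = ∑ k, (-x') k * ν (y k)
      rw [hG]
      simp only [Pi.zero_apply, map_zero, mul_zero, Finset.sum_const_zero, zero_sub, add_zero, Pi.neg_apply, neg_mul,
        Finset.sum_neg_distrib])) (zer i1 f1 fun x => by
      change -(0 : Fin m → F) = 0
      rw [neg_zero]) 1 fun _ => hone
  obtain ⟨x2, hd2, hx2, hf2⟩ := exists_elt hB he (gram i2 f2 (by
      rintro ⟨x, x', a⟩ y
      change B (Φ (x, x', a)) (Φ (0, y, 0)) = ∑ k, x k * ν (y k)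
      rw [hG]
      simp only [Pi.zero_apply, map_zero, mul_zero, Finset.sum_const_zero, sub_zero, add_zero])) (zer i2 f2 fun x => rfl)
      1 fun _ => hone
  obtain ⟨x3, hd3, hx3, hf3⟩ := exists_elt hB he (gram i3 f3 (by
      rintro ⟨x, x', a⟩ y
      change B (Φ (x, x', a)) (Φ (y, y, 0)) = ∑ k, (x - x') k * ν (y k)
      rw [hG]
      simp only [Pi.zero_apply, map_zero, mul_zero, Finset.sum_const_zero, add_zero, Pi.sub_apply, sub_mul,
        Finset.sum_sub_distrib])) (zer i3 f3 fun x => by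
      change x - x = 0
      rw [sub_self]) 1 fun _ => hone
  obtain ⟨x4, hd4, hx4, hf4⟩ := exists_elt hB he (gram (i4 i0 κ) (f4 i0 (ν κ) δ) (by
      rintro ⟨x, x', a⟩ y
      change B (Φ (x, x', a)) (Φ (y, Pi.single i0 (κ * y i0), fun _ => y i0)) =
        ∑ k, (-x' + Pi.single i0 (ν κ * x i0 + δ * ∑ i, a i) : Fin m → F) k * ν (y k)
      rw [hG]
      have e1 : ∑ i, x i * ν ((Pi.single i0 (κ * y i0) : Fin m → F) i) = x i0 * (ν κ * ν (y i0)) := by
        rw [Finset.sum_eq_single i0]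
        · rw [Pi.single_eq_same, map_mul]
        · intro j _ hj
          rw [Pi.single_eq_of_ne hj, map_zero, mul_zero]
        · intro h; exact absurd (Finset.mem_univ _) h
      have e2 : ∑ k, (-x' + Pi.single i0 (ν κ * x i0 + δ * ∑ i, a i) : Fin m → F) k * ν (y k) =
          -∑ k, x' k * ν (y k) + (ν κ * x i0 + δ * ∑ i, a i) * ν (y i0) := by
        simp only [Pi.add_apply, Pi.neg_apply, add_mul, neg_mul, Finset.sum_add_distrib, Finset.sum_neg_distrib]
        congr 1
        rw [Finset.sum_eq_single i0]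
        · rw [Pi.single_eq_same, add_mul]
        · intro j _ hj
          rw [Pi.single_eq_of_ne hj, zero_mul]
        · intro h; exact absurd (Finset.mem_univ _) h
      rw [e1, e2, ← Finset.sum_mul]
      ring)) (zer (i4 i0 κ) (f4 i0 (ν κ) δ) fun x => by
      change -(Pi.single i0 (κ * x i0) : Fin m → F) + Pi.single i0 (ν κ * x i0 + δ * ∑ _i : Fin ε, x i0) = 0
      have e1 : δ * ∑ _i : Fin ε, x i0 = (δ * ∑ _i : Fin ε, (1 : F)) * x i0 := by
        rw [mul_assoc, Finset.sum_mul]
        simp only [one_mul]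
      rw [e1, ← hκδ]
      have e2 : ν κ * x i0 + (κ - ν κ) * x i0 = κ * x i0 := by ring
      rw [e2, neg_add_cancel]) (pm m γ₂) fun h2 k l => pm_fr ν (hM h2) k l
  -- the proof
  refine ⟨![x1, x2, x3, x4], ?_, ?_, ?_⟩
  · intro i
    fin_cases i
    exacts [hd1, hd2, hd3, hd4]
  · intro i
    fin_cases i
    exacts [hx1, hx2, hx3, hx4]
  · intro f hf hi
    have hfP : f ∈ RP K V := (hS hf).1
    have hE := hSE f hf
    have k1 := hf1 f hfP hE (hSE _ (hi 0))
    have k2 := hf2 f hfP hE (hSE _ (hi 1))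
    have k3 := hf3 f hfP hE (hSE _ (hi 2))
    have k4 := hf4 f hfP hE (hSE _ (hi 3))
    obtain ⟨g, hg, hfg⟩ := Cfsg.Agent.H277.FC.stmtSN K V (Nat.succ_le_of_lt Module.finrank_pos) f hfP
    set τ : F ≃+* F := (fr K F 1).toRingEquiv with hτ
    set g' : W F m ε → W F m ε := fun w => Φ.symm (g (Φ w)) with hg'
    have hgadd : ∀ v w, g' (v + w) = g' v + g' w := by
      intro v w
      change Φ.symm (g (Φ (v + w))) = _
      rw [map_add, hg.1, map_add]
    have key : ∀ (ι : (Fin m → F) →ₗ[F] W F m ε) (M : Matrix (Fin m) (Fin m) F) (φ : W F m ε →ₗ[F] (Fin m → F)),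
        f (op 1 (Φ.toLinearMap ∘ₗ ι) M (φ ∘ₗ Φ.symm.toLinearMap)) =
          op 1 (Φ.toLinearMap ∘ₗ ι) M (φ ∘ₗ Φ.symm.toLinearMap) →
        ∀ w, g' (Zop τ ι M φ w) = Zop τ ι M φ (g' w) := by
      intro ι M φ hfix w
      have h1 : ∀ w, (op 1 (Φ.toLinearMap ∘ₗ ι) M (φ ∘ₗ Φ.symm.toLinearMap) : R K V) (Φ w) = Φ (Zop τ ι M φ w) := by
        intro w
        change Φ (ι (M.mulVec fun k => fr K F 1 (φ (Φ.symm (Φ w)) k))) = _
        rw [Φ.symm_apply_apply]
        rfl
      change Φ.symm (g (Φ (Zop τ ι M φ w))) = _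
      rw [← h1, ← hfg, hfix]
      have h2 : g (Φ w) = Φ (g' w) := (Φ.apply_symm_apply _).symm
      rw [h2, h1, Φ.symm_apply_apply]
    obtain ⟨t, ht, hgt⟩ := rigid τ hε (i0 := i0) rfl hκ hκ' hγ₂ hγ hor g' hgadd (key _ _ _ k1) (key _ _ _ k2)
      (key _ _ _ k3) (key _ _ _ k4)
    obtain ⟨k, rfl⟩ := mem_of_fix (K := K) ht
    have hgv : ∀ v, g v = k • v := by
      intro v
      have h1 := hgt (Φ.symm v)
      change Φ.symm (g (Φ (Φ.symm v))) = _ at h1
      rw [Φ.apply_symm_apply] at h1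
      have h2 := congrArg Φ h1
      rw [Φ.apply_symm_apply, map_smul, Φ.apply_symm_apply, algebraMap_smul] at h2
      exact h2
    have hk0 : k ≠ 0 := by
      rintro rfl
      obtain ⟨v, hv⟩ := exists_ne (0 : V)
      apply hv
      apply g.injective
      rw [hgv, hgv, zero_smul, zero_smul]
    apply Equiv.ext
    intro X
    rw [Equiv.Perm.one_apply]
    ext v
    have h1 := hfg X v
    rw [hgv, hgv, map_smul] at h1
    exact smul_right_injective V hk0 h1

end

open Cfsg.Agent.H786.FC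

/-- the parts of `StmtBC3` with `2 e ≤ n` -/
theorem stmtBC3_two_mul (c t : Bool) {P : ℕ → ℕ → Prop} (hP : ∀ n e, P n e → 2 * e ≤ n) : StmtBC3On.{u, v} c t P := by
  intro K _ _ V _ _ _ b hkind hbig S hS hsol E hPn ht hE hp hadj hSE
  letI : Field E := hE.toField
  haveI : Nontrivial V := by
    apply Module.nontrivial_of_finrank_pos (R := K)
    have h1 := hP _ _ hPn
    have h2 := hp.pos
    omega
  haveI : Finite V := Module.finite_of_finite K
  haveI : Finite (R K V) := Module.finite_of_finite K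
  haveI : Finite E := Subtype.finite
  refine core (F := E) b hp ?_ (hP _ _ hPn) S hS ?_
  · intro α
    obtain ⟨Y, hY, hadj⟩ := hadj α.1 α.2
    exact ⟨⟨Y, hY⟩, fun v w => hadj v w⟩
  · intro f hf a
    refine ⟨⟨f a.1, hSE f hf a.1 a.2⟩, ?_⟩
    rfl

/-- 5388 -/
theorem bc3_unitary : StmtBC3On.{u, v} true true fun n e => 2 * e ≤ n :=
  stmtBC3_two_mul _ _ fun _ _ h => h

/-- 5390, 5391 -/
theorem bc3_symplectic (t : Bool) : StmtBC3On.{u, v} false t fun _ _ => True := by
  intro K _ _ V _ _ _ b hkind hbig S hS hsol E _ ht hE hp hadj hSE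
  have hsp : b.IsSp := hkind.2 rfl
  have heven := even_finrank b hsp
  have h4 : 4 ≤ Module.finrank K V := by
    rcases hbig with h | h
    · obtain ⟨⟨⟨a, ha⟩, -⟩, -⟩ := h
      exact absurd (hsp.1 a) ha
    · exact h.2.1
  obtain ⟨s, hs⟩ := finrank_dvd E hE
  have h2 : 2 * Module.finrank K E ≤ Module.finrank K V := by
    rcases Nat.lt_or_ge s 2 with hs2 | hs2
    · exfalso
      interval_cases s
      · omega
      · rw [mul_one] at hs
        rw [← hs] at hp
        rcases hp.even_iff.1 heven with h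
        omega
    · rw [hs, mul_comm]
      exact Nat.mul_le_mul_left _ hs2
  exact stmtBC3_two_mul false t (P := fun n e => 2 * e ≤ n) (fun _ _ h => h) K V b hkind hbig S hS hsol E h2 ht hE hp
    hadj hSE

/-- `StmtBC3` from the case `n = e` -/
theorem stmtBC3 (hV : StmtBC3On.{u, v} true true fun n e => n = e) : StmtBC3.{u, v} :=
  stmtBC3_of bc3_unitary hV (bc3_symplectic false) (bc3_symplectic true)

end Cfsg.Agent.H510.BF
end

-- part: H886/FC/BTwoP
section
/-!
# S5764: `StmtBC2'` (pairs of totally isotropic subspaces; unitary and symplectic)   (helper886)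

`V = A ⊕ A'`, `A = range (e 0)`, `A' = range (e 1)`.  For `0 ≠ h : A' → A` skew, `x = 1 + h`, every `f` with `f` and
`x f x⁻¹` in the stabilizer fixes `e 0`, `e 1` and `h`.  Four skew maps `h` with trivial common (semilinear) centralizer:
in a basis `a` of `A` and the reversed dual basis `α` of `A'` : `α k ↦ ε a k`, `α (k + 1) ↦ ε a k`, the rank one map
`α 0 ↦ ε a last` and `α 0 ↦ ε c a 0, α last ↦ ε τ(c) a last`.
-/

set_option autoImplicit false

universe u v

namespace Cfsg.Agent.H886.FC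

open Module Cfsg.Agent.H198.FC

section

variable {K : Type u} [Field K] {V : Type v} [AddCommGroup V] [Module K V]

theorem det_one_add_sq [FiniteDimensional K V] {h : R K V} (hh : h * h = 0) : LinearMap.det (1 + h) = 1 := by
  have h1 : IsNilpotent (-h) := ⟨2, by rw [pow_two, neg_mul_neg, hh]⟩
  have h2 := h1.charpoly_eq_X_pow_finrank
  have h3 := LinearMap.eval_charpoly (-h) (1 : K)
  rw [h2, Polynomial.eval_pow, Polynomial.eval_X, one_pow, map_one, sub_neg_eq_add] at h3
  exact h3.symm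

/-- the unit `1 + h` -/
def un1 (h : R K V) (hh : h * h = 0) : (R K V)ˣ where
  val := 1 + h
  inv := 1 - h
  val_inv := by
    have : (1 + h) * (1 - h) = 1 - h * h := by noncomm_ring
    rw [this, hh, sub_zero]
  inv_val := by
    have : (1 - h) * (1 + h) = 1 - h * h := by noncomm_ring
    rw [this, hh, sub_zero]

theorem fin2 (π : Equiv.Perm (Fin 2)) : (π 0 = 0 ∧ π 1 = 1) ∨ (π 0 = 1 ∧ π 1 = 0) := by
  have h : π 0 ≠ π 1 := fun h => absurd (π.injective h) (by decide)
  revert h
  generalize π 0 = x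
  generalize π 1 = y
  fin_cases x <;> fin_cases y <;> simp

/-- `f` and `x f x⁻¹` stabilize `{e 0, e 1}`, `x = 1 + h` -/
theorem fix_of_mem {e : Fin 2 → R K V} (he : CompleteOrthogonalIdempotents e) {f : Equiv.Perm (R K V)}
    (hf : f ∈ RP K V) (hp : ∃ π : Equiv.Perm (Fin 2), ∀ i, f (e i) = e (π i)) {h : R K V} (hh : h * h = 0)
    (h0 : e 0 * h = h) (h1 : h * e 1 = h) (hne : h ≠ 0)
    (hp' : ∃ π : Equiv.Perm (Fin 2), ∀ i, (cj K V (un1 h hh) * f * (cj K V (un1 h hh))⁻¹) (e i) = e (π i)) :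
    f (e 0) = e 0 ∧ f (e 1) = e 1 ∧ f h = h := by
  obtain ⟨π, hπ⟩ := hp
  obtain ⟨π', hπ'⟩ := hp'
  have e00 : e 0 * e 0 = e 0 := he.idem 0
  have e11 : e 1 * e 1 = e 1 := he.idem 1
  have e01 : e 0 * e 1 = 0 := he.ortho (by decide)
  have e10 : e 1 * e 0 = 0 := he.ortho (by decide)
  have he0 : h * e 0 = 0 := by rw [← h1, mul_assoc, e10, mul_zero]
  have h1h : e 1 * h = 0 := by rw [← h0, ← mul_assoc, e10, zero_mul]
  have f1 : f 1 = 1 := by
    have h2 := hf.2 (f⁻¹ 1) 1
    rw [mul_one, show f (f⁻¹ 1) = 1 from f.apply_symm_apply 1, one_mul] at h2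
    exact h2.symm
  have f0 : f 0 = 0 := ra_zero (RP_le_RA hf)
  have fsub : ∀ X Y, f (X - Y) = f X - f Y := by
    intro X Y
    have h2 := hf.1 (X - Y) Y
    rw [sub_add_cancel] at h2
    rw [h2, add_sub_cancel_right]
  set k := f h with hk
  have hk0 : f (e 0) * k = k := by rw [hk, ← hf.2, h0]
  have hk1 : k * f (e 1) = k := by rw [hk, ← hf.2, h1]
  -- the key relation
  have key : ∀ i, (1 + h) * (1 - k) * e (π i) = e (π' i) * ((1 + h) * (1 - k)) := by
    intro i
    have h2 : e (π' i) = (1 + h) * f ((1 - h) * e i * (1 + h)) * (1 - h) := (hπ' i).symm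
    have h3 : f ((1 - h) * e i * (1 + h)) = (1 - k) * e (π i) * (1 + k) := by
      rw [hf.2, hf.2, fsub, hf.1, f1, hπ]
    rw [h2, h3]
    have h4 : (1 - h) * (1 + h) = 1 := (un1 h hh).inv_val
    have hkk : k * k = 0 := by rw [hk, ← hf.2, hh, f0]
    have h5 : (1 + k) * (1 - k) = 1 := (un1 k hkk).val_inv
    calc (1 + h) * (1 - k) * e (π i) = (1 + h) * ((1 - k) * e (π i)) * 1 := by rw [mul_one, mul_assoc]
      _ = (1 + h) * ((1 - k) * e (π i)) * ((1 + k) * (1 - k)) := by rw [h5]
      _ = (1 + h) * ((1 - k) * e (π i) * (1 + k)) * 1 * (1 - k) := by simp only [mul_assoc, one_mul]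
      _ = (1 + h) * ((1 - k) * e (π i) * (1 + k)) * ((1 - h) * (1 + h)) * (1 - k) := by rw [h4]
      _ = _ := by simp only [mul_assoc]
  rcases fin2 π with ⟨hπ0, hπ1⟩ | ⟨hπ0, hπ1⟩
  · -- `f` fixes `e 0` and `e 1`
    have fe0 : f (e 0) = e 0 := by rw [hπ, hπ0]
    have fe1 : f (e 1) = e 1 := by rw [hπ, hπ1]
    rw [fe0] at hk0
    rw [fe1] at hk1
    have hke0 : k * e 0 = 0 := by rw [← hk1, mul_assoc, e10, mul_zero]
    have h1k : e 1 * k = 0 := by rw [← hk0, ← mul_assoc, e10, zero_mul]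
    have hhk : h * k = 0 := by rw [← h1, mul_assoc, h1k, mul_zero]
    have hm : (1 + h) * (1 - k) = 1 + h - k := by
      have : (1 + h) * (1 - k) = 1 + h - k - h * k := by noncomm_ring
      rw [this, hhk, sub_zero]
    refine ⟨fe0, fe1, ?_⟩
    have h2 := key 0
    rw [hπ0, hm, sub_mul, add_mul, one_mul, he0, hke0, add_zero, sub_zero, mul_sub, mul_add, mul_one] at h2
    rcases fin2 π' with ⟨hπ'0, -⟩ | ⟨hπ'0, -⟩
    · rw [hπ'0, h0, hk0] at h2
      have h3 : h - k = 0 := by
        have h4 : e 0 + h - k = e 0 + (h - k) := by abel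
        rw [h4] at h2
        exact (left_eq_add.1 h2)
      exact (sub_eq_zero.1 h3).symm
    · exfalso
      rw [hπ'0, h1h, h1k, add_zero, sub_zero] at h2
      apply hne
      rw [← h0, ← e00]
      nth_rw 2 [h2]
      rw [e01, zero_mul]
  · exfalso
    have fe0 : f (e 0) = e 1 := by rw [hπ, hπ0]
    have fe1 : f (e 1) = e 0 := by rw [hπ, hπ1]
    rw [fe0] at hk0
    rw [fe1] at hk1
    have h0k : e 0 * k = 0 := by rw [← hk0, ← mul_assoc, e01, zero_mul]
    have h2 := key 1
    rw [hπ1] at h2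
    have h3 : (1 + h) * (1 - k) * e 0 = e 0 - k - h * k := by
      have : (1 + h) * (1 - k) * e 0 = e 0 - k * e 0 + h * e 0 - h * (k * e 0) := by noncomm_ring
      rw [this, he0, hk1]
      abel
    rw [h3] at h2
    rcases fin2 π' with ⟨-, hπ'1⟩ | ⟨-, hπ'1⟩
    · -- `π' 1 = 1`
      rw [hπ'1] at h2
      have h4 : e 1 * ((1 + h) * (1 - k)) = e 1 - k := by
        have : e 1 * ((1 + h) * (1 - k)) = e 1 - e 1 * k + e 1 * h * (1 - k) := by noncomm_ring
        rw [this, h1h, hk0, zero_mul, add_zero]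
      rw [h4] at h2
      have h5 : e 0 - h * k = e 1 := by
        have : e 0 - h * k = (e 0 - k - h * k) + k := by abel
        rw [this, h2]
        abel
      have h6 : e 0 * (e 0 - h * k) = 0 := by rw [h5, e01]
      have h7 : e 0 - h * k = 0 := by
        rw [mul_sub, e00, ← mul_assoc, h0] at h6
        exact h6
      apply hne
      rw [← h1, ← h5, h7, mul_zero]
    · rw [hπ'1] at h2
      have h4 : e 0 * ((1 + h) * (1 - k)) = e 0 + h - h * k := by
        have : e 0 * ((1 + h) * (1 - k)) = e 0 - e 0 * k + e 0 * h - e 0 * h * k := by noncomm_ring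
        rw [this, h0, h0k]
        abel
      rw [h4] at h2
      have h5 : h = -k := by
        have : e 0 - k - h * k - (e 0 + h - h * k) = -k - h := by abel
        rw [h2, sub_self] at this
        exact (sub_eq_zero.1 this.symm).symm
      apply hne
      rw [← h0, h5, mul_neg, h0k, neg_zero]

/-- the sign and a skew scalar -/
theorem exists_sign (b : Cl K V) : ∃ s ε : K, s * s = 1 ∧ b.τ s = s ∧ (∀ v w, b.τ (b.B v w) = s * b.B w v) ∧ ε ≠ 0 ∧
    s * b.τ ε = -ε := by
  rcases b.typ with ⟨⟨a, ha⟩, ht⟩ | ⟨hτ, ht⟩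
  · refine ⟨1, b.τ a - a, one_mul 1, map_one _, fun v w => ?_, sub_ne_zero.2 ha, ?_⟩
    · rw [one_mul, ← ht]
    · rw [one_mul, map_sub, b.invol, neg_sub]
  · have hs : ∀ v w, b.B v w = - b.B w v := by
      intro v w
      have h1 := ht (v + w)
      rw [b.add_left, b.add_right, b.add_right, ht, ht, zero_add, add_zero] at h1
      exact eq_neg_of_add_eq_zero_left h1
    refine ⟨-1, 1, by ring, by rw [map_neg, map_one], fun v w => ?_, one_ne_zero, by rw [map_one, mul_one]⟩
    rw [hτ, hs, neg_one_mul]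

theorem B_sum_left (b : Cl K V) {ι : Type*} (s : Finset ι) (φ : ι → V) (w : V) :
    b.B (∑ i ∈ s, φ i) w = ∑ i ∈ s, b.B (φ i) w := by
  classical
  induction s using Finset.induction_on with
  | empty =>
    rw [Finset.sum_empty, Finset.sum_empty]
    exact B_zero_left b w
  | insert i s hi ih => rw [Finset.sum_insert hi, Finset.sum_insert hi, b.add_left, ih]

theorem B_sum_right (b : Cl K V) {ι : Type*} (s : Finset ι) (φ : ι → V) (v : V) :
    b.B v (∑ i ∈ s, φ i) = ∑ i ∈ s, b.B v (φ i) := by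
  classical
  induction s using Finset.induction_on with
  | empty => rw [Finset.sum_empty, Finset.sum_empty]; exact B_zero_right b v
  | insert i s hi ih => rw [Finset.sum_insert hi, Finset.sum_insert hi, b.add_right, ih]

/-- the skew maps -/
def skm (b : Cl K V) (ε : K) {m : ℕ} (a : Fin m → V) (M : Fin m → Fin m → K) : R K V where
  toFun v := ε • ∑ i, ∑ j, (M i j * b.B v (a j)) • a i
  map_add' v w := by
    rw [← smul_add]
    congr 1
    rw [← Finset.sum_add_distrib]
    refine Finset.sum_congr rfl fun i _ => ?_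
    rw [← Finset.sum_add_distrib]
    refine Finset.sum_congr rfl fun j _ => ?_
    rw [b.add_left, mul_add, add_smul]
  map_smul' c v := by
    rw [RingHom.id_apply, smul_comm c ε]
    congr 1
    rw [Finset.smul_sum]
    refine Finset.sum_congr rfl fun i _ => ?_
    rw [Finset.smul_sum]
    refine Finset.sum_congr rfl fun j _ => ?_
    rw [b.smul_left, smul_smul, mul_left_comm]

theorem skm_apply (b : Cl K V) (ε : K) {m : ℕ} (a : Fin m → V) (M : Fin m → Fin m → K) (v : V) :
    skm b ε a M v = ε • ∑ i, ∑ j, (M i j * b.B v (a j)) • a i := rfl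

theorem skm_adj (b : Cl K V) {s ε : K} (hs : ∀ v w, b.τ (b.B v w) = s * b.B w v) (hε : s * b.τ ε = -ε) {m : ℕ}
    (a : Fin m → V) {M : Fin m → Fin m → K} (hM : ∀ i j, b.τ (M j i) = M i j) (v w : V) :
    b.B (skm b ε a M v) w = - b.B v (skm b ε a M w) := by
  rw [skm_apply, skm_apply, b.smul_left, b.smul_right, B_sum_left, B_sum_right, Finset.mul_sum, Finset.mul_sum,
    ← Finset.sum_neg_distrib]
  simp only [B_sum_left, B_sum_right, b.smul_left, b.smul_right, Finset.mul_sum, ← Finset.sum_neg_distrib]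
  rw [Finset.sum_comm]
  refine Finset.sum_congr rfl fun i _ => Finset.sum_congr rfl fun j _ => ?_
  rw [map_mul, hs, hM]
  have : ε = - (s * b.τ ε) := by rw [hε, neg_neg]
  conv_lhs => rw [this]
  ring

/-- `a` a basis of `A`, `α` the reversed dual basis of `A'` -/
structure Pair (b : Cl K V) (e : Fin 2 → R K V) {m : ℕ} (a α : Fin m → V) : Prop where
  sum : ∀ v, e 0 v + e 1 v = v
  idem : ∀ v, e 1 (e 1 v) = e 1 v
  adj : ∀ v w, b.B (e 1 v) w = b.B v (e 0 w)
  ti : ∀ v w, e 1 v = v → b.B v (e 1 w) = 0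
  ea : ∀ i, e 0 (a i) = a i
  eα : ∀ i, e 1 (α i) = α i
  li : LinearIndependent K a
  span : ∀ v, e 0 v ∈ Submodule.span K (Set.range a)
  dual : ∀ i j, b.B (α i) (a j) = if j = Fin.rev i then 1 else 0

theorem Pair.inj {b : Cl K V} {e : Fin 2 → R K V} {m : ℕ} {a α : Fin m → V} (h : Pair b e a α) {v : V}
    (hv : e 1 v = v) (h0 : ∀ j, b.B v (a j) = 0) : v = 0 := by
  apply b.nondeg
  intro w
  rw [← h.sum w, b.add_right, h.ti v w hv, add_zero]
  have h1 := h.span w
  refine Submodule.span_induction (p := fun x _ => b.B v x = 0) ?_ ?_ ?_ ?_ h1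
  · rintro _ ⟨j, rfl⟩
    exact h0 j
  · exact B_zero_right b v
  · intro x y _ _ hx hy
    rw [b.add_right, hx, hy, add_zero]
  · intro c x _ hx
    rw [b.smul_right, hx, mul_zero]

theorem exists_pair [Finite K] [FiniteDimensional K V] (b : Cl K V) {e : Fin 2 → R K V}
    (he : CompleteOrthogonalIdempotents e) (hadj : b.Adj (e 0) (e 1)) :
    ∃ (m : ℕ) (a α : Fin m → V), Pair b e a α ∧ finrank K V ≤ 2 * m := by
  classical
  have e00 : e 0 * e 0 = e 0 := he.idem 0
  have e11 : e 1 * e 1 = e 1 := he.idem 1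
  have e01 : e 0 * e 1 = 0 := he.ortho (by decide)
  have e10 : e 1 * e 0 = 0 := he.ortho (by decide)
  have hsum : e 0 + e 1 = 1 := by
    have := he.complete
    rwa [Fin.sum_univ_two] at this
  have hadj' : b.Adj (e 1) (e 0) := adj_symm b hadj
  have hti : ∀ v w, e 1 v = v → b.B v (e 1 w) = 0 := by
    intro v w hv
    rw [← hadj v w, ← hv, ← Module.End.mul_apply, e01]
    exact B_zero_left b w
  have hsum' : ∀ v, e 0 v + e 1 v = v := fun v => LinearMap.congr_fun hsum v
  obtain ⟨s, ε, hss, hs, hst, -, -⟩ := exists_sign b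
  let bas := finBasis K (LinearMap.range (e 0))
  let m := finrank K (LinearMap.range (e 0))
  let a : Fin m → V := fun i => (bas i : V)
  have ha : ∀ i, a i = (bas i : V) := fun i => rfl
  have hea : ∀ i, e 0 (a i) = a i := by
    intro i
    obtain ⟨u, hu⟩ := (bas i).2
    rw [ha, ← hu, ← Module.End.mul_apply, e00]
  have hli : LinearIndependent K a := bas.linearIndependent.map' (LinearMap.range (e 0)).subtype
    (Submodule.ker_subtype _)
  have hspan : Submodule.span K (Set.range a) = LinearMap.range (e 0) := by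
    have h1 : Set.range a = (LinearMap.range (e 0)).subtype '' Set.range bas := by
      rw [← Set.range_comp]
      rfl
    rw [h1, Submodule.span_image, bas.span_eq, Submodule.map_top, Submodule.range_subtype]
  have hα : ∀ i, ∃ α : V, e 1 α = α ∧ ∀ j, b.B α (a j) = if j = Fin.rev i then 1 else 0 := by
    intro i
    obtain ⟨w, hw⟩ := fn_surj b (s • ((bas.coord (Fin.rev i)) ∘ₗ (e 0).rangeRestrict))
    have hw' : ∀ v, b.B v w = s * bas.coord (Fin.rev i) ((e 0).rangeRestrict v) := fun v => LinearMap.congr_fun hw v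
    refine ⟨e 1 w, by rw [← Module.End.mul_apply, e11], fun j => ?_⟩
    rw [hadj' w, hea]
    have h1 : (e 0).rangeRestrict (a j) = bas j := Subtype.ext (hea j)
    have h2 : b.B (a j) w = s * if j = Fin.rev i then 1 else 0 := by
      rw [hw', h1, Basis.coord_apply, Basis.repr_self, Finsupp.single_apply]
    have h3 := hst (a j) w
    rw [h2, map_mul, hs] at h3
    have h4 : b.τ (if j = Fin.rev i then (1 : K) else 0) = if j = Fin.rev i then 1 else 0 := by
      split_ifs
      · exact map_one _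
      · exact map_zero _
    rw [h4] at h3
    have h5 := congrArg (fun x => s * x) h3
    simp only [← mul_assoc, hss, one_mul] at h5
    exact h5.symm
  choose α hα1 hα2 using hα
  have hP : Pair b e a α := ⟨hsum', fun v => LinearMap.congr_fun e11 v, hadj', hti, hea, hα1, hli, fun v => by rw [hspan]; exact ⟨v, rfl⟩, hα2⟩
  refine ⟨m, a, α, hP, ?_⟩
  have h1 : finrank K V = finrank K (LinearMap.range (e 0)) + finrank K (LinearMap.range (e 1)) := by
    rw [← rank_add e00 e11 e01 e10, hsum, LinearMap.range_eq_top.2 (fun v => ⟨v, rfl⟩), finrank_top]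
  have h2 : finrank K (LinearMap.range (e 1)) ≤ m := by
    let Φ : LinearMap.range (e 1) →ₗ[K] (Fin m → K) :=
      { toFun := fun v j => b.B v (a j)
        map_add' := fun v w => funext fun j => b.add_left _ _ _
        map_smul' := fun c v => funext fun j => b.smul_left _ _ _ }
    have hinj : Function.Injective Φ := by
      rw [← LinearMap.ker_eq_bot, LinearMap.ker_eq_bot']
      rintro ⟨v, hv⟩ hv0
      apply Subtype.ext
      apply hP.inj
      · obtain ⟨u, rfl⟩ := hv
        rw [← Module.End.mul_apply, e11]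
      · intro j
        exact congrFun hv0 j
    have h3 := LinearMap.finrank_le_finrank_of_injective hinj
    rwa [finrank_fin_fun] at h3
  rw [h1]
  change m + _ ≤ 2 * m
  omega

/-! ### the four matrices -/

section mat

variable (K) (p : ℕ)

/-- `α k ↦ a k` -/
def M1 (i j : Fin (p + 2)) : K := if j = Fin.rev i then 1 else 0
/-- `α 0 ↦ a last` -/
def M2 (i j : Fin (p + 2)) : K := if i = Fin.last _ ∧ j = Fin.last _ then 1 else 0
/-- `α (k + 1) ↦ a k` -/
def M3 (i j : Fin (p + 2)) : K := if i.val + j.val = p then 1 else 0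

variable {K}

/-- `α 0 ↦ c a 0`, `α last ↦ τ(c) a last` -/
def M4 (c c' : K) (i j : Fin (p + 2)) : K :=
  if i = 0 ∧ j = Fin.last _ then c else if i = Fin.last _ ∧ j = 0 then c' else 0

end mat

theorem m1_sym (b : Cl K V) {p : ℕ} (i j : Fin (p + 2)) : b.τ (M1 K p j i) = M1 K p i j := by
  have h : i = Fin.rev j ↔ j = Fin.rev i := by
    constructor
    · rintro rfl; rw [Fin.rev_rev]
    · rintro rfl; rw [Fin.rev_rev]
  unfold M1
  by_cases hij : j = Fin.rev i
  · rw [if_pos hij, if_pos (h.2 hij), map_one]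
  · rw [if_neg hij, if_neg (fun h' => hij (h.1 h')), map_zero]

theorem m2_sym (b : Cl K V) {p : ℕ} (i j : Fin (p + 2)) : b.τ (M2 K p j i) = M2 K p i j := by
  unfold M2
  by_cases hij : i = Fin.last _ ∧ j = Fin.last _
  · rw [if_pos hij, if_pos hij.symm, map_one]
  · rw [if_neg hij, if_neg (fun h' => hij h'.symm), map_zero]

theorem m3_sym (b : Cl K V) {p : ℕ} (i j : Fin (p + 2)) : b.τ (M3 K p j i) = M3 K p i j := by
  unfold M3
  rw [add_comm]
  split_ifs
  · exact map_one _
  · exact map_zero _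

theorem m4_sym (b : Cl K V) {p : ℕ} (c : K) (i j : Fin (p + 2)) : b.τ (M4 p c (b.τ c) j i) = M4 p c (b.τ c) i j := by
  have h0 : (0 : Fin (p + 2)) ≠ Fin.last _ := by
    rw [Ne, Fin.ext_iff]
    simp
  unfold M4
  by_cases h1 : i = 0 ∧ j = Fin.last _
  · have h2 : ¬ (j = 0 ∧ i = Fin.last _) := fun h => h0 (h.1.symm.trans h1.2)
    rw [if_pos h1, if_neg h2, if_pos h1.symm, b.invol]
  · by_cases h2 : i = Fin.last _ ∧ j = 0
    · rw [if_neg h1, if_pos h2, if_pos h2.symm]
    · have h3 : ¬ (j = 0 ∧ i = Fin.last _) := fun h => h2 h.symm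
      have h4 : ¬ (j = Fin.last _ ∧ i = 0) := fun h => h1 h.symm
      rw [if_neg h1, if_neg h2, if_neg h3, if_neg h4, map_zero]

variable {b : Cl K V} {e : Fin 2 → R K V} {p : ℕ} {a α : Fin (p + 2) → V}

theorem skm_α (hP : Pair b e a α) (ε : K) (M : Fin (p + 2) → Fin (p + 2) → K) (k : Fin (p + 2)) :
    skm b ε a M (α k) = ε • ∑ i, M i (Fin.rev k) • a i := by
  rw [skm_apply]
  congr 1
  refine Finset.sum_congr rfl fun i _ => ?_
  rw [Finset.sum_eq_single (Fin.rev k)]
  · rw [hP.dual, if_pos rfl, mul_one]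
  · intro j _ hj
    rw [hP.dual, if_neg hj, mul_zero, zero_smul]
  · intro h
    exact absurd (Finset.mem_univ _) h

theorem skm1 (hP : Pair b e a α) (ε : K) (k : Fin (p + 2)) : skm b ε a (M1 K p) (α k) = ε • a k := by
  rw [skm_α hP, Finset.sum_eq_single k]
  · unfold M1; rw [if_pos rfl, one_smul]
  · intro i _ hi
    unfold M1
    rw [if_neg (fun h => hi (Fin.rev_injective h).symm), zero_smul]
  · intro h
    exact absurd (Finset.mem_univ _) h

theorem skm2 (b : Cl K V) (ε : K) (a : Fin (p + 2) → V) (v : V) :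
    skm b ε a (M2 K p) v = (ε * b.B v (a (Fin.last _))) • a (Fin.last _) := by
  rw [skm_apply, mul_smul, Finset.sum_eq_single (Fin.last _)]
  · congr 1
    rw [Finset.sum_eq_single (Fin.last _)]
    · unfold M2; rw [if_pos ⟨rfl, rfl⟩, one_mul]
    · intro j _ hj
      unfold M2
      rw [if_neg (fun h => hj h.2), zero_mul, zero_smul]
    · intro h
      exact absurd (Finset.mem_univ _) h
  · intro i _ hi
    apply Finset.sum_eq_zero
    intro j _
    unfold M2
    rw [if_neg (fun h => hi h.1), zero_mul, zero_smul]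
  · intro h
    exact absurd (Finset.mem_univ _) h

theorem skm3 (hP : Pair b e a α) (ε : K) (k : Fin (p + 1)) :
    skm b ε a (M3 K p) (α k.succ) = ε • a k.castSucc := by
  rw [skm_α hP, Finset.sum_eq_single k.castSucc]
  · unfold M3
    rw [if_pos, one_smul]
    rw [Fin.val_rev, Fin.val_castSucc, Fin.val_succ]
    omega
  · intro i _ hi
    unfold M3
    rw [if_neg, zero_smul]
    intro h
    apply hi
    rw [Fin.ext_iff, Fin.val_castSucc]
    rw [Fin.val_rev, Fin.val_succ] at h
    omega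
  · intro h
    exact absurd (Finset.mem_univ _) h

theorem skm4 (hP : Pair b e a α) (ε c c' : K) : skm b ε a (M4 p c c') (α 0) = (ε * c) • a 0 := by
  have h0 : (0 : Fin (p + 2)) ≠ Fin.last _ := by
    rw [Ne, Fin.ext_iff]
    simp
  rw [skm_α hP, mul_smul, Finset.sum_eq_single 0]
  · unfold M4
    rw [Fin.rev_zero, if_pos ⟨rfl, rfl⟩]
  · intro i _ hi
    unfold M4
    rw [if_neg (fun h => hi h.1), if_neg, zero_smul]
    rintro ⟨-, h⟩
    rw [Fin.rev_zero] at h
    exact h0 h.symm
  · intro h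
    exact absurd (Finset.mem_univ _) h

/-- **rigidity** -/
theorem rigid (hP : Pair b e a α) {ε c : K} (hε : ε ≠ 0) (hc : c ≠ 0)
    (hcg : ∀ σ : K ≃+* K, σ c = c → ∀ x, σ x = x) {g : V → V} (hg : Function.Injective g)
    (hadd : ∀ v w, g (v + w) = g v + g w) {σ : K ≃+* K} (hsm : ∀ (x : K) (v : V), g (x • v) = σ x • g v)
    (g1 : ∀ v, e 1 (g v) = g (e 1 v))
    (k1 : ∀ v, skm b ε a (M1 K p) (g v) = g (skm b ε a (M1 K p) v))
    (k2 : ∀ v, skm b ε a (M2 K p) (g v) = g (skm b ε a (M2 K p) v))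
    (k3 : ∀ v, skm b ε a (M3 K p) (g v) = g (skm b ε a (M3 K p) v))
    (k4 : ∀ v, skm b ε a (M4 p c (b.τ c)) (g v) = g (skm b ε a (M4 p c (b.τ c)) v)) :
    ∃ r : K, r ≠ 0 ∧ ∀ v, g v = r • v := by
  classical
  have hg0 : g 0 = 0 := by
    have := hsm 0 0
    rwa [zero_smul, map_zero, zero_smul] at this
  have ha0 : ∀ k, a k ≠ 0 := fun k => hP.li.ne_zero k
  have hσε : σ ε ≠ 0 := fun h => hε (σ.injective (by rw [h, map_zero]))
  -- `g` fixes the line of `a last`
  obtain ⟨r, hr⟩ : ∃ r : K, g (a (Fin.last _)) = r • a (Fin.last _) := by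
    have h1 := k2 (α 0)
    rw [skm2, skm2, hP.dual, if_pos (by rw [Fin.rev_zero]), mul_one, hsm] at h1
    refine ⟨(σ ε)⁻¹ * (ε * b.B (g (α 0)) (a (Fin.last _))), ?_⟩
    rw [mul_smul, h1, smul_smul, inv_mul_cancel₀ hσε, one_smul]
  have hr0 : r ≠ 0 := by
    rintro rfl
    rw [zero_smul] at hr
    exact ha0 _ (hg (by rw [hr, hg0]))
  -- from `a k` to `α k`
  have hstep : ∀ k, g (a k) = r • a k → g (α k) = (σ ε * ε⁻¹ * r) • α k := by
    intro k hk
    rw [← sub_eq_zero]
    apply hP.inj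
    · rw [map_sub, map_smul, hP.eα, g1, hP.eα]
    · -- it is killed by `skm M1`
      have h1 : skm b ε a (M1 K p) (g (α k) - (σ ε * ε⁻¹ * r) • α k) = 0 := by
        rw [map_sub, map_smul, k1, skm1 hP, hsm, hk, smul_smul, smul_smul, sub_eq_zero]
        congr 1
        field_simp
      rw [skm_apply, smul_eq_zero] at h1
      have h2 := h1.resolve_left hε
      have h3 : ∀ v, ∑ i, ∑ j, (M1 K p i j * b.B v (a j)) • a i = ∑ i, b.B v (a (Fin.rev i)) • a i := by
        intro v
        refine Finset.sum_congr rfl fun i _ => ?_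
        rw [Finset.sum_eq_single (Fin.rev i)]
        · unfold M1; rw [if_pos rfl, one_mul]
        · intro j _ hj
          unfold M1
          rw [if_neg hj, zero_mul, zero_smul]
        · intro h
          exact absurd (Finset.mem_univ _) h
      rw [h3] at h2
      intro j
      have h4 := Fintype.linearIndependent_iff.1 hP.li _ h2 (Fin.rev j)
      rwa [Fin.rev_rev] at h4
  have hga : ∀ k, g (a k) = r • a k := by
    intro k
    induction k using Fin.reverseInduction with
    | last => exact hr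
    | cast i ih =>
      have h1 := hstep _ ih
      have h2 := k3 (α i.succ)
      rw [h1, map_smul, skm3 hP, hsm, smul_smul] at h2
      have h3 : σ ε * ε⁻¹ * r * ε = σ ε * r := by field_simp
      rw [h3, mul_smul] at h2
      exact (smul_right_injective V hσε h2).symm
  have hgα : ∀ k, g (α k) = (σ ε * ε⁻¹ * r) • α k := fun k => hstep k (hga k)
  have hσ : ∀ x, σ x = x := by
    apply hcg
    have h1 := k4 (α 0)
    rw [hgα, map_smul, skm4 hP, hsm, hga, smul_smul, smul_smul] at h1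
    have h2 := smul_left_injective K (ha0 0) h1
    have h3 : σ ε * ε⁻¹ * r * (ε * c) = (σ ε * r) * c := by field_simp
    have h4 : σ (ε * c) * r = (σ ε * r) * σ c := by rw [map_mul]; ring
    simp only [h3, h4] at h2
    exact (mul_left_cancel₀ (mul_ne_zero hσε hr0) h2).symm
  refine ⟨r, hr0, ?_⟩
  have hα' : ∀ k, g (α k) = r • α k := by
    intro k
    rw [hgα, hσ, mul_inv_cancel₀ hε, one_mul]
  let T : Submodule K V :=
    { carrier := {v | g v = r • v}
      zero_mem' := by
        show g 0 = r • (0 : V)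
        rw [hg0, smul_zero]
      add_mem' := by
        intro v w hv hw
        show g (v + w) = r • (v + w)
        rw [hadd, hv, hw, smul_add]
      smul_mem' := by
        intro x v hv
        show g (x • v) = r • x • v
        rw [hsm, hσ, hv, smul_comm] }
  intro v
  have h1 : e 0 v ∈ T := by
    have h2 : Submodule.span K (Set.range a) ≤ T := by
      refine Submodule.span_le.2 ?_
      rintro _ ⟨k, rfl⟩
      exact hga k
    exact h2 (hP.span v)
  have h2 : e 1 v ∈ T := by
    have h3 : e 1 v = ∑ k, b.B (e 1 v) (a (Fin.rev k)) • α k := by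
      rw [← sub_eq_zero]
      apply hP.inj
      · rw [map_sub, hP.idem, map_sum]
        congr 1
        refine Finset.sum_congr rfl fun k _ => ?_
        rw [map_smul, hP.eα]
      · intro j
        have h4 : ∀ x y : V, b.B (x - y) (a j) = b.B x (a j) - b.B y (a j) := by
          intro x y
          rw [eq_sub_iff_add_eq, ← b.add_left, sub_add_cancel]
        rw [h4, B_sum_left, sub_eq_zero, Finset.sum_eq_single (Fin.rev j)]
        · rw [b.smul_left, hP.dual, Fin.rev_rev, if_pos rfl, mul_one]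
        · intro k _ hk
          rw [b.smul_left, hP.dual, if_neg, mul_zero]
          rintro rfl
          exact hk (Fin.rev_rev k).symm
        · intro h
          exact absurd (Finset.mem_univ _) h
    rw [h3]
    exact Submodule.sum_mem _ fun k _ => Submodule.smul_mem _ _ (hα' k)
  have h3 := T.add_mem h1 h2
  rw [hP.sum] at h3
  exact h3

theorem skm_e0 {m : ℕ} {a α : Fin m → V} (hP : Pair b e a α) (ε : K) (M : Fin m → Fin m → K) :
    e 0 * skm b ε a M = skm b ε a M := by
  ext v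
  rw [Module.End.mul_apply, skm_apply, map_smul, map_sum]
  congr 1
  refine Finset.sum_congr rfl fun i _ => ?_
  rw [map_sum]
  refine Finset.sum_congr rfl fun j _ => ?_
  rw [map_smul, hP.ea]

theorem skm_e1 {m : ℕ} {a α : Fin m → V} (hP : Pair b e a α) (ε : K) (M : Fin m → Fin m → K) :
    skm b ε a M * e 1 = skm b ε a M := by
  ext v
  rw [Module.End.mul_apply, skm_apply, skm_apply]
  congr 1
  refine Finset.sum_congr rfl fun i _ => ?_
  refine Finset.sum_congr rfl fun j _ => ?_
  rw [hP.adj, hP.ea]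

theorem isom_one_add (b : Cl K V) {h : R K V} (hh : h * h = 0) (hs : ∀ v w, b.B (h v) w = - b.B v (h w)) :
    b.Isom (1 + h) := by
  intro v w
  have h1 : b.B (h v) (h w) = 0 := by
    rw [hs, ← Module.End.mul_apply, hh, LinearMap.zero_apply, B_zero_right, neg_zero]
  rw [LinearMap.add_apply, LinearMap.add_apply, Module.End.one_apply, Module.End.one_apply, b.add_left, b.add_right,
    b.add_right, h1, add_zero, hs, add_assoc, add_neg_cancel, add_zero]

end

/-- **B-C2'** -/
theorem stmtBC2' : StmtBC2'.{u, v} := by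
  classical
  intro K _ _ V _ _ _ b hbig S hS _ e he hadj hp
  have hn3 : 3 ≤ finrank K V := by
    rcases hbig with ⟨_, h, _⟩ | ⟨_, h, _⟩ <;> omega
  have : Nontrivial V := Module.nontrivial_of_finrank_pos (R := K) (by omega)
  obtain ⟨m, a, α, hP, hm⟩ := exists_pair b he hadj
  obtain ⟨p, rfl⟩ : ∃ p, m = p + 2 := ⟨m - 2, by omega⟩
  obtain ⟨s, ε, -, -, hs, hε, hsε⟩ := exists_sign b
  obtain ⟨c, hc⟩ := IsCyclic.exists_generator (α := Kˣ)
  have hcg : ∀ σ : K ≃+* K, σ (c : K) = c → ∀ x, σ x = x := by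
    intro σ hσ x
    by_cases hx : x = 0
    · rw [hx, map_zero]
    · obtain ⟨k, hk⟩ := hc (Units.mk0 x hx)
      have h1 : ((c ^ k : Kˣ) : K) = x := by
        have : (c ^ k : Kˣ) = Units.mk0 x hx := hk
        rw [this]; rfl
      rw [← h1, Units.val_zpow_eq_zpow_val, map_zpow₀, hσ]
  have e10 : e 1 * e 0 = 0 := he.ortho (by decide)
  have hsq : ∀ M : Fin (p + 2) → Fin (p + 2) → K, skm b ε a M * skm b ε a M = 0 := by
    intro M
    have h1 : skm b ε a M * skm b ε a M = (skm b ε a M * e 1) * (e 0 * skm b ε a M) := by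
      rw [skm_e0 hP, skm_e1 hP]
    rw [h1, mul_assoc, ← mul_assoc (e 1), e10, zero_mul, mul_zero]
  have ha0 : ∀ k, a k ≠ 0 := fun k => hP.li.ne_zero k
  let M : Fin 4 → Fin (p + 2) → Fin (p + 2) → K := ![M1 K p, M2 K p, M3 K p, M4 p (c : K) (b.τ c)]
  have hsym : ∀ t i j, b.τ (M t j i) = M t i j := by
    intro t
    fin_cases t
    · exact m1_sym b
    · exact m2_sym b
    · exact m3_sym b
    · exact m4_sym b (c : K)
  have hne : ∀ t, skm b ε a (M t) ≠ 0 := by
    intro t h0
    fin_cases t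
    · have h1 : skm b ε a (M1 K p) (α 0) = 0 := LinearMap.congr_fun h0 _
      rw [skm1 hP, smul_eq_zero] at h1
      exact h1.elim hε (ha0 _)
    · have h1 : skm b ε a (M2 K p) (α 0) = 0 := LinearMap.congr_fun h0 _
      rw [skm2, hP.dual, if_pos (by rw [Fin.rev_zero]), mul_one, smul_eq_zero] at h1
      exact h1.elim hε (ha0 _)
    · have h1 : skm b ε a (M3 K p) (α (Fin.succ 0)) = 0 := LinearMap.congr_fun h0 _
      rw [skm3 hP, smul_eq_zero] at h1
      exact h1.elim hε (ha0 _)
    · have h1 : skm b ε a (M4 p (c : K) (b.τ c)) (α 0) = 0 := LinearMap.congr_fun h0 _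
      rw [skm4 hP, smul_eq_zero] at h1
      exact h1.elim (mul_ne_zero hε c.ne_zero) (ha0 _)
  refine ⟨fun t => un1 (skm b ε a (M t)) (hsq _), fun t => det_one_add_sq (hsq _),
    fun t => isom_one_add b (hsq _) (skm_adj b hs hsε a (hsym t)), ?_⟩
  intro f hf hfx
  have hfix : ∀ t, f (e 0) = e 0 ∧ f (e 1) = e 1 ∧ f (skm b ε a (M t)) = skm b ε a (M t) := fun t =>
    fix_of_mem he (hS hf).1 (hp f hf) (hsq _) (skm_e0 hP ε _) (skm_e1 hP ε _) (hne t) (hp _ (hfx t))
  obtain ⟨g, ⟨hadd, σ, hsm⟩, hg⟩ := Cfsg.Agent.H277.FC.stmtSN K V (by omega) f (hS hf).1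
  have hk : ∀ t v, skm b ε a (M t) (g v) = g (skm b ε a (M t) v) := by
    intro t v
    have h1 := hg (skm b ε a (M t)) v
    rwa [(hfix t).2.2] at h1
  have hg1 : ∀ v, e 1 (g v) = g (e 1 v) := by
    intro v
    have h1 := hg (e 1) v
    rwa [(hfix 0).2.1] at h1
  obtain ⟨r, hr, hgr⟩ := rigid hP hε c.ne_zero hcg g.injective hadd hsm hg1 (hk 0) (hk 1) (hk 2) (hk 3)
  apply Equiv.ext
  intro X
  apply LinearMap.ext
  intro v
  have h1 := hg X v
  rw [hgr, hgr, map_smul] at h1
  exact smul_right_injective V hr h1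

end Cfsg.Agent.H886.FC
end

-- part: H563/FC/P5a
section
/-!
# S5764: extraspecial type normalizers, unitary, `n = r` prime: the Heisenberg pair and the form (helper563)
-/

set_option autoImplicit false

namespace Cfsg.Agent.H563.FC

open Module Cfsg.Agent.H198.FC Cfsg.Agent.H277.FC Cfsg.Agent.H706.FC
open Cfsg.Agent.H710.FC (Heis)

universe u v

variable {K : Type u} [Field K] {V : Type v} [AddCommGroup V] [Module K V] {β : Cl K V}

/-- a unit with `cj y ∈ RB β` is a similitude -/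
theorem exists_mu [Nontrivial V] {y : (R K V)ˣ} (hy : cj K V y ∈ RB β) :
    ∃ μ : K, ∀ v w, β.B ((y : R K V) v) ((y : R K V) w) = μ * β.B v w := by
  obtain ⟨μ, hμ⟩ := Cfsg.Agent.H412.FC.isSim_of_adj β hy.2
    (g := (Cfsg.Agent.H200.FC.ofU y).toEquiv) (σ := RingEquiv.refl K)
    (fun v w => map_add (Cfsg.Agent.H200.FC.ofU y) v w) (fun a v => map_smul (Cfsg.Agent.H200.FC.ofU y) a v)
    (fun X v => by
      show (cj K V y X) ((y : R K V) v) = (y : R K V) (X v)
      rw [cj_apply, ← Module.End.mul_apply, mul_assoc, mul_assoc, Units.inv_mul, mul_one, Module.End.mul_apply])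
  exact ⟨μ, fun v w => hμ.form v w⟩

theorem mu_fix [Nontrivial V] (hU : β.IsU) {y : (R K V)ˣ} {μ : K}
    (hμ : ∀ v w, β.B ((y : R K V) v) ((y : R K V) w) = μ * β.B v w) : β.τ μ = μ := by
  obtain ⟨w, hw⟩ := exists_ne (0 : V)
  obtain ⟨v, hv⟩ := exists_left (b := β) hw
  have h1 := hU.2 ((y : R K V) v) ((y : R K V) w)
  rw [hμ, hμ, map_mul, ← hU.2 v w] at h1
  exact (mul_right_cancel₀ hv h1).symm

theorem mu_pow {y : (R K V)ˣ} {μ : K} (hμ : ∀ v w, β.B ((y : R K V) v) ((y : R K V) w) = μ * β.B v w) (k : ℕ) (v w : V) :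
    β.B (((y : R K V) ^ k) v) (((y : R K V) ^ k) w) = μ ^ k * β.B v w := by
  induction k with
  | zero => simp
  | succ k ih =>
    rw [pow_succ', Module.End.mul_apply, Module.End.mul_apply, hμ, ih, pow_succ']
    ring

section heis

variable {r : ℕ} {ω : K} {P Z : (R K V)ˣ}

/-- the form and a Heisenberg pair -/
structure HF (β : Cl K V) (r : ℕ) (ω : K) (P Z : (R K V)ˣ) (e : Basis (ZMod r) K V) : Prop where
  hs : Heis r ω P Z
  five : 5 ≤ r
  unit : β.IsU
  eZ : ∀ i, (Z : R K V) (e i) = Heis.ch r ω i • e i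
  eP : ∀ i, (P : R K V) (e i) = e (i + 1)
  om : ω * β.τ ω = 1
  isoP : ∀ v w, β.B ((P : R K V) v) ((P : R K V) w) = β.B v w
  isoZ : ∀ v w, β.B ((Z : R K V) v) ((Z : R K V) w) = β.B v w

theorem exists_HF [Module.Finite K V] (h : Heis r ω P Z) (h5 : 5 ≤ r) (hU : β.IsU) (hP : cj K V P ∈ RB β)
    (hZ : cj K V Z ∈ RB β) : ∃ e : Basis (ZMod r) K V, HF β r ω P Z e := by
  have hnt : Nontrivial V := by
    apply Module.nontrivial_of_finrank_pos (R := K)
    rw [h.rank]; exact h.hr.pos
  obtain ⟨e, heZ, heP⟩ := h.exists_basis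
  obtain ⟨μ, hμ⟩ := exists_mu hP
  obtain ⟨ν, hν⟩ := exists_mu hZ
  obtain ⟨w₀, hw₀⟩ := exists_ne (0 : V)
  obtain ⟨v₀, hv₀⟩ := exists_right (b := β) hw₀
  have hμr : μ ^ r = 1 := by
    have h1 := mu_pow hμ r v₀ w₀
    rw [h.Pr'] at h1
    have h2 : μ ^ r * β.B v₀ w₀ = 1 * β.B v₀ w₀ := by rw [one_mul]; exact h1.symm
    exact mul_right_cancel₀ hv₀ h2
  have hνr : ν ^ r = 1 := by
    have h1 := mu_pow hν r v₀ w₀
    rw [h.Zr'] at h1
    have h2 : ν ^ r * β.B v₀ w₀ = 1 * β.B v₀ w₀ := by rw [one_mul]; exact h1.symm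
    exact mul_right_cancel₀ hv₀ h2
  have hμ0 : μ ≠ 0 := by
    rintro rfl
    rw [zero_pow h.hr.ne_zero] at hμr
    exact zero_ne_one hμr
  have hν0 : ν ≠ 0 := by
    rintro rfl
    rw [zero_pow h.hr.ne_zero] at hνr
    exact zero_ne_one hνr
  have hom : ω * β.τ ω = 1 := by
    have h1 : β.B ((Z : R K V) ((P : R K V) v₀)) ((Z : R K V) ((P : R K V) w₀)) = ν * (μ * β.B v₀ w₀) := by
      rw [hν, hμ]
    rw [h.ZP, h.ZP, β.smul_left, β.smul_right, hμ, hν] at h1
    have h2 : (ω * β.τ ω) * (ν * (μ * β.B v₀ w₀)) = 1 * (ν * (μ * β.B v₀ w₀)) := by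
      linear_combination h1
    exact mul_right_cancel₀ (mul_ne_zero hν0 (mul_ne_zero hμ0 hv₀)) h2
  have key : ∀ {t : K}, t ^ r = 1 → β.τ t = t → t = 1 := by
    intro t ht htτ
    have : NeZero r := ⟨h.hr.ne_zero⟩
    obtain ⟨k, -, hk⟩ := h.prim.eq_pow_of_pow_eq_one ht
    have h1 : t * t = 1 := by
      nth_rewrite 2 [← htτ]
      rw [← hk, map_pow, ← mul_pow, hom, one_pow]
    obtain ⟨m, hm⟩ := h.hr.even_sub_one h.odd
    have h2 : r = 2 * m + 1 := by have := h.hr.one_lt; omega
    rw [h2, pow_succ, pow_mul, pow_two, h1, one_pow, one_mul] at ht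
    exact ht
  have e1 := key hμr (mu_fix hU hμ)
  have e2 := key hνr (mu_fix hU hν)
  subst e1 e2
  exact ⟨e, h, h5, hU, heZ, heP, hom, fun v w => by rw [hμ, one_mul], fun v w => by rw [hν, one_mul]⟩

variable {e : Basis (ZMod r) K V}

namespace HF

variable (h : HF β r ω P Z e)

include h

theorem ne : NeZero r := ⟨h.hs.hr.ne_zero⟩

theorem tau_ne : β.τ ω ≠ ω := by
  intro h1
  have h2 := h.om
  rw [h1, ← pow_two] at h2
  have h3 := h.hs.prim.dvd_of_pow_eq_one 2 h2
  have h4 := Nat.le_of_dvd (by norm_num) h3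
  have := h.five
  omega

theorem ch_inv (i : ZMod r) : Heis.ch r ω i * β.τ (Heis.ch r ω i) = 1 := by
  show ω ^ i.val * β.τ (ω ^ i.val) = 1
  rw [map_pow, ← mul_pow, h.om, one_pow]

/-- the basis is orthogonal -/
theorem orth {i j : ZMod r} (hij : i ≠ j) : β.B (e i) (e j) = 0 := by
  have h1 := h.isoZ (e i) (e j)
  rw [h.eZ, h.eZ, β.smul_left, β.smul_right, ← mul_assoc] at h1
  have h2 : (Heis.ch r ω i * β.τ (Heis.ch r ω j) - 1) * β.B (e i) (e j) = 0 := by
    rw [sub_mul, h1, one_mul, sub_self]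
  rcases mul_eq_zero.1 h2 with h3 | h3
  · exfalso
    apply hij
    apply h.hs.ch_inj
    have h4 := h.ch_inv j
    have h5 : Heis.ch r ω i * β.τ (Heis.ch r ω j) = Heis.ch r ω j * β.τ (Heis.ch r ω j) := by
      rw [h4]; exact sub_eq_zero.1 h3
    exact mul_right_cancel₀ (right_ne_zero_of_mul_eq_one h4) h5
  · exact h3

theorem diag (i : ZMod r) : β.B (e i) (e i) = β.B (e 0) (e 0) := by
  have := h.ne
  have h1 : ∀ n : ℕ, β.B (e (n : ZMod r)) (e (n : ZMod r)) = β.B (e 0) (e 0) := by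
    intro n
    induction n with
    | zero => rw [Nat.cast_zero]
    | succ n ih => rw [Nat.cast_succ, ← h.eP, h.isoP, ih]
  have h2 := h1 i.val
  rwa [ZMod.natCast_zmod_val] at h2

theorem B_repr (v : V) (j : ZMod r) : β.B v (e j) = e.repr v j * β.B (e 0) (e 0) := by
  have := h.ne
  have h1 : ∀ (s : Finset (ZMod r)), β.B (∑ i ∈ s, e.repr v i • e i) (e j) = ∑ i ∈ s, e.repr v i * β.B (e i) (e j) := by
    intro s
    induction s using Finset.induction_on with
    | empty => rw [Finset.sum_empty, Finset.sum_empty, B_zero_left]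
    | insert i s hi ih => rw [Finset.sum_insert hi, Finset.sum_insert hi, β.add_left, β.smul_left, ih]
  have h2 := h1 Finset.univ
  rw [e.sum_repr] at h2
  rw [h2, Finset.sum_eq_single j]
  · rw [h.diag j]
  · intro i _ hij
    rw [h.orth hij, mul_zero]
  · intro hj
    exact absurd (Finset.mem_univ j) hj

theorem D_ne : β.B (e 0) (e 0) ≠ 0 := by
  intro h0
  obtain ⟨v, hv⟩ := exists_right (b := β) (e.ne_zero 0)
  rw [h.B_repr v 0, h0, mul_zero] at hv
  exact hv rfl

theorem D_fix : β.τ (β.B (e 0) (e 0)) = β.B (e 0) (e 0) := (h.unit.2 _ _).symm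

end HF

end heis

end Cfsg.Agent.H563.FC
end

-- part: H563/FC/P5
section
/-!
# S5764: extraspecial type normalizers, unitary, `n = r ≥ 5` prime (helper563)

`w = e₀ + α e₁`, `α τ(α) = -1`.
-/

set_option autoImplicit false

namespace Cfsg.Agent.H563.FC

open Module Cfsg.Agent.H198.FC Cfsg.Agent.H277.FC Cfsg.Agent.H706.FC
open Cfsg.Agent.H710.FC (Heis)

universe u v

variable {K : Type u} [Field K] {V : Type v} [AddCommGroup V] [Module K V] {β : Cl K V}
variable {r : ℕ} {ω : K} {P Z : (R K V)ˣ} {e : Basis (ZMod r) K V}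

namespace HF

section a

variable (h : HF β r ω P Z e)

include h

theorem ch_add (i j : ZMod r) : Heis.ch r ω (i + j) = Heis.ch r ω i * Heis.ch r ω j := by
  have := h.ne
  have h1 : i + j = ((i.val + j.val : ℕ) : ZMod r) := by
    rw [Nat.cast_add, ZMod.natCast_zmod_val, ZMod.natCast_zmod_val]
  rw [h1, h.hs.ch_nat, pow_add]
  rfl

theorem P_pow (n : ℕ) (m : ZMod r) : ((P : R K V) ^ n) (e m) = e (m + n) := by
  induction n with
  | zero => rw [pow_zero, Nat.cast_zero, add_zero]; rfl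
  | succ n ih => rw [pow_succ', Module.End.mul_apply, ih, h.eP, Nat.cast_succ, add_assoc]

theorem Z_pow' (n : ℕ) (m : ZMod r) : ((Z : R K V) ^ n) (e m) = Heis.ch r ω m ^ n • e m := by
  induction n with
  | zero => rw [pow_zero, pow_zero, one_smul]; rfl
  | succ n ih => rw [pow_succ', Module.End.mul_apply, ih, map_smul, h.eZ, smul_smul, pow_succ]

theorem PZ (i j : ℕ) (m : ZMod r) :
    ((P : R K V) ^ i * (Z : R K V) ^ j) (e m) = Heis.ch r ω m ^ j • e (m + i) := by
  rw [Module.End.mul_apply, h.Z_pow', map_smul, h.P_pow]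

theorem cast_ne {a b : ℕ} (ha : a < 5) (hb : b < 5) (hab : a ≠ b) : (a : ZMod r) ≠ (b : ZMod r) := by
  intro h1
  have h5 := h.five
  rw [ZMod.natCast_eq_natCast_iff'] at h1
  rw [Nat.mod_eq_of_lt (by omega), Nat.mod_eq_of_lt (by omega)] at h1
  exact hab h1

end a

/-- the elements of `Hat A` -/
theorem hat [Module.Finite K V] {S A : Subgroup (Equiv.Perm (R K V))} {r' a : ℕ} (h : HF β r ω P Z e)
    (hA : C6Data S A r' a) (hP : P ∈ Hat A) (hZ : Z ∈ Hat A) {y : (R K V)ˣ} (hy : y ∈ Hat A) :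
    ∃ (ν : K) (i j : ℕ), ν ≠ 0 ∧ (y : R K V) = ν • ((P : R K V) ^ i * (Z : R K V) ^ j) := by
  have := nontrivial_of hA
  obtain ⟨c₁, -, h1⟩ := comm_smul hA hy hZ
  obtain ⟨c₂, -, h2⟩ := comm_smul hA hy hP
  obtain ⟨i, j, hij⟩ := h.hs.lift h1 h2
  obtain ⟨ν, hν, hy'⟩ := cj_eq hij
  exact ⟨ν, i, j, hν, by rw [hy', Units.val_mul, Units.val_pow_eq_pow_val, Units.val_pow_eq_pow_val]⟩

/-- the vector `e₀ + α e₁` -/
noncomputable def wv (e : Basis (ZMod r) K V) (α : K) : V := e ((0 : ℕ) : ZMod r) + α • e ((1 : ℕ) : ZMod r)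

section b

variable (h : HF β r ω P Z e) {α : K}

include h

theorem cast0 : e ((0 : ℕ) : ZMod r) = e 0 := by rw [Nat.cast_zero]

theorem B0w (α : K) : β.B (e ((0 : ℕ) : ZMod r)) (wv e α) = β.B (e 0) (e 0) := by
  rw [wv, β.add_right, β.smul_right, h.diag, h.orth (h.cast_ne (by norm_num) (by norm_num) (by norm_num)), mul_zero,
    add_zero]

theorem B1w (α : K) : β.B (e ((1 : ℕ) : ZMod r)) (wv e α) = β.τ α * β.B (e 0) (e 0) := by
  rw [wv, β.add_right, β.smul_right, h.diag ((1 : ℕ) : ZMod r),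
    h.orth (h.cast_ne (by norm_num) (by norm_num) (by norm_num)), zero_add]

theorem Bmw (α : K) {m : ZMod r} (h0 : m ≠ ((0 : ℕ) : ZMod r)) (h1 : m ≠ ((1 : ℕ) : ZMod r)) :
    β.B (e m) (wv e α) = 0 := by
  rw [wv, β.add_right, β.smul_right, h.orth h0, h.orth h1, mul_zero, add_zero]

theorem wv_ne (α : K) : wv e α ≠ 0 := by
  intro h0
  have h1 := h.B0w α
  rw [h0, B_zero_right] at h1
  exact h.D_ne h1.symm

theorem wv_iso (hα : α * β.τ α = -1) : β.B (wv e α) (wv e α) = 0 := by
  have h1 : β.B (wv e α) (wv e α) = β.B (e ((0 : ℕ) : ZMod r)) (wv e α) +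
      α * β.B (e ((1 : ℕ) : ZMod r)) (wv e α) := by
    conv_lhs => rw [show wv e α = e ((0 : ℕ) : ZMod r) + α • e ((1 : ℕ) : ZMod r) from rfl, β.add_left, β.smul_left]
    rfl
  rw [h1, h.B0w, h.B1w]
  linear_combination (β.B (e 0) (e 0)) * hα

theorem repr_wv (α : K) (m : ZMod r) : e.repr (wv e α) m =
    (if m = ((0 : ℕ) : ZMod r) then 1 else 0) + α * (if m = ((1 : ℕ) : ZMod r) then 1 else 0) := by
  rw [wv, map_add, map_smul, Basis.repr_self, Basis.repr_self, Finsupp.add_apply, Finsupp.smul_apply,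
    Finsupp.single_apply, Finsupp.single_apply, smul_eq_mul]
  congr 1
  · by_cases hm : m = ((0 : ℕ) : ZMod r)
    · rw [if_pos hm, if_pos hm.symm]
    · rw [if_neg hm, if_neg (Ne.symm hm)]
  · congr 1
    by_cases hm : m = ((1 : ℕ) : ZMod r)
    · rw [if_pos hm, if_pos hm.symm]
    · rw [if_neg hm, if_neg (Ne.symm hm)]

theorem repr_wv0 (α : K) : e.repr (wv e α) ((0 : ℕ) : ZMod r) = 1 := by
  rw [h.repr_wv, if_pos rfl, if_neg (h.cast_ne (by norm_num) (by norm_num) (by norm_num)), mul_zero, add_zero]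

theorem repr_wv1 (α : K) : e.repr (wv e α) ((1 : ℕ) : ZMod r) = α := by
  rw [h.repr_wv, if_pos rfl, if_neg (h.cast_ne (by norm_num) (by norm_num) (by norm_num)), mul_one, zero_add]

theorem repr_wvm (α : K) {m : ZMod r} (h0 : m ≠ ((0 : ℕ) : ZMod r)) (h1 : m ≠ ((1 : ℕ) : ZMod r)) :
    e.repr (wv e α) m = 0 := by
  rw [h.repr_wv, if_neg h0, if_neg h1, mul_zero, add_zero]

theorem alpha_ne (hα : α * β.τ α = -1) : α ≠ 0 := by
  rintro rfl
  rw [zero_mul] at hα
  exact neg_ne_zero.2 one_ne_zero hα.symm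

end b

/-- condition `h1` -/
theorem cond1 [Module.Finite K V] {S A : Subgroup (Equiv.Perm (R K V))} {r' a : ℕ} (h : HF β r ω P Z e)
    (hA : C6Data S A r' a) (hP : P ∈ Hat A) (hZ : Z ∈ Hat A) {α : K} (hα : α * β.τ α = -1) {y : (R K V)ˣ}
    (hy : y ∈ Hat A) {l : K} (hl : (y : R K V) (wv e α) = l • wv e α) : Scal y := by
  have := h.ne
  have hα0 := h.alpha_ne hα
  obtain ⟨ν, i, j, hν, hyν⟩ := h.hat hA hP hZ hy
  have h1 : (y : R K V) (wv e α) = ν • (e ((0 : ℕ) + i : ZMod r) + (α * ω ^ j) • e ((1 : ℕ) + i : ZMod r)) := by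
    rw [hyν, wv, LinearMap.smul_apply, map_add, map_smul, h.PZ, h.PZ, h.hs.ch_nat, h.hs.ch_nat, pow_zero, one_pow,
      one_smul, pow_one, smul_smul]
  have h2 : ∀ m, e.repr ((y : R K V) (wv e α)) m = ν * ((if ((0 : ℕ) + i : ZMod r) = m then 1 else 0) +
      (α * ω ^ j) * (if ((1 : ℕ) + i : ZMod r) = m then 1 else 0)) := by
    intro m
    rw [h1, map_smul, map_add, map_smul, Basis.repr_self, Basis.repr_self, Finsupp.smul_apply, Finsupp.add_apply,
      Finsupp.smul_apply, Finsupp.single_apply, Finsupp.single_apply, smul_eq_mul, smul_eq_mul]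
  have h3 : ∀ m, e.repr ((y : R K V) (wv e α)) m = l * e.repr (wv e α) m := by
    intro m
    rw [hl, map_smul, Finsupp.smul_apply, smul_eq_mul]
  have h01 : ((0 : ℕ) : ZMod r) ≠ ((1 : ℕ) : ZMod r) := h.cast_ne (by norm_num) (by norm_num) (by norm_num)
  have hne : ((1 : ℕ) + i : ZMod r) ≠ ((0 : ℕ) + i : ZMod r) := fun h0 => h01 (add_right_cancel h0).symm
  have hω0 : ω ^ j ≠ 0 := pow_ne_zero _ h.hs.ω_ne
  -- `i = 0`
  have hi : ((i : ℕ) : ZMod r) = 0 := by
    by_contra hi0
    have h4 := (h2 ((0 : ℕ) + i : ZMod r)).symm.trans (h3 _)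
    rw [if_pos rfl, if_neg hne, mul_zero, add_zero, mul_one] at h4
    have h5 : ((0 : ℕ) + i : ZMod r) ≠ ((0 : ℕ) : ZMod r) := by simpa using hi0
    by_cases h6 : ((0 : ℕ) + i : ZMod r) = ((1 : ℕ) : ZMod r)
    · have h7 := (h2 ((1 : ℕ) + i : ZMod r)).symm.trans (h3 _)
      rw [if_neg (Ne.symm hne), if_pos rfl, zero_add, mul_one] at h7
      have h8 : ((1 : ℕ) + i : ZMod r) = ((2 : ℕ) : ZMod r) := by
        have : ((i : ℕ) : ZMod r) = ((1 : ℕ) : ZMod r) := by rw [← h6, Nat.cast_zero, zero_add]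
        rw [this]
        push_cast
        norm_num
      rw [h8, h.repr_wvm α (h.cast_ne (by norm_num) (by norm_num) (by norm_num))
        (h.cast_ne (by norm_num) (by norm_num) (by norm_num)), mul_zero] at h7
      exact mul_ne_zero hν (mul_ne_zero hα0 hω0) h7
    · rw [h.repr_wvm α h5 h6, mul_zero] at h4
      exact hν h4
  have h4 := (h2 ((0 : ℕ) : ZMod r)).symm.trans (h3 _)
  have h5 := (h2 ((1 : ℕ) : ZMod r)).symm.trans (h3 _)
  rw [hi, add_zero, add_zero, if_pos rfl, if_neg (Ne.symm h01), h.repr_wv0, mul_zero, add_zero, mul_one] at h4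
  rw [hi, add_zero, add_zero, if_neg h01, if_pos rfl, h.repr_wv1, zero_add, mul_one, h4, mul_one] at h5
  have hl0 : l ≠ 0 := by
    rintro rfl
    rw [zero_mul] at h4
    exact hν h4
  have h6 : ω ^ j = 1 := by
    have h7 : (l * α) * ω ^ j = (l * α) * 1 := by linear_combination h5
    exact mul_left_cancel₀ (mul_ne_zero hl0 hα0) h7
  have h7 : (Z : R K V) ^ j = 1 := by
    obtain ⟨t, ht⟩ := h.hs.prim.dvd_of_pow_eq_one j h6
    rw [ht, pow_mul, h.hs.Zr', one_pow]
  have h8 : (P : R K V) ^ i = 1 := by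
    obtain ⟨t, ht⟩ := (ZMod.natCast_eq_zero_iff i r).1 hi
    rw [ht, pow_mul, h.hs.Pr', one_pow]
  exact ⟨ν, by rw [hyν, h7, h8, one_mul]⟩

/-- images of lifts -/
theorem map_lift [Nontrivial V] {f : Equiv.Perm (R K V)} (hf : f ∈ RP K V) {x : (R K V)ˣ}
    (hc : f * cj K V x = cj K V x * f) : ∃ c : K, c ≠ 0 ∧ f (x : R K V) = c • (x : R K V) := by
  have h1 := f_cj hf x
  rw [hc] at h1
  obtain ⟨c, hc0, hc⟩ := cj_eq (mul_right_cancel h1).symm
  exact ⟨c, hc0, hc⟩

/-- the field automorphism of an element centralizing `P, Z` fixes `ω` -/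
theorem sig_om [Nontrivial V] (h : HF β r ω P Z e) {f : Equiv.Perm (R K V)} (hf : f ∈ RP K V)
    (hP : f * cj K V P = cj K V P * f) (hZ : f * cj K V Z = cj K V Z * f) {σ : K ≃+* K} (hσ : HasSig f σ) :
    σ ω = ω := by
  obtain ⟨p, hp0, hp⟩ := map_lift hf hP
  obtain ⟨z, hz0, hz⟩ := map_lift hf hZ
  have h1 := congrArg f h.hs.comm
  rw [hf.2, hp, hz, hσ.smul hf, hf.2, hp, hz, smul_mul_assoc, mul_smul_comm, smul_mul_assoc, mul_smul_comm, h.hs.comm,
    smul_smul, smul_smul, smul_smul, smul_smul] at h1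
  have h2 : ((P * Z : (R K V)ˣ) : R K V) ≠ 0 := Units.ne_zero _
  rw [Units.val_mul] at h2
  have h3 := smul_left_injective K h2 h1
  have h4 : (z * p) * σ ω = (z * p) * ω := by linear_combination -h3
  exact mul_left_cancel₀ (mul_ne_zero hz0 hp0) h4

/-- the semilinear map permutes the lines of the basis -/
theorem semi_basis [Module.Finite K V] [Nontrivial V] (h : HF β r ω P Z e) {f : Equiv.Perm (R K V)} (hf : f ∈ RP K V)
    (hP : f * cj K V P = cj K V P * f) (hZ : f * cj K V Z = cj K V Z * f) :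
    ∃ (σ : K ≃+* K) (F : Equiv.Perm V) (k : ZMod r) (φ : ZMod r → K), HasSig f σ ∧
      (∀ v w, F (v + w) = F v + F w) ∧ (∀ (a : K) (v : V), F (a • v) = σ a • F v) ∧
      (∀ (X : R K V) (v : V), f X (F v) = F (X v)) ∧ (∀ i, φ i ≠ 0) ∧ ∀ i, F (e i) = φ i • e (i + k) := by
  obtain ⟨σ, hσ⟩ := exists_sig hf
  have hσω := h.sig_om hf hP hZ hσ
  obtain ⟨F, hadd, hsm, hF⟩ := hσ.semi hf
  obtain ⟨z, hz0, hz⟩ := map_lift hf hZ
  have hF0 : F 0 = 0 := by
    have h1 := hadd 0 0
    rw [add_zero] at h1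
    simpa using h1
  have hpow : ∀ k : ℕ, f ((Z : R K V) ^ k) = z ^ k • (Z : R K V) ^ k := by
    intro k
    induction k with
    | zero => rw [pow_zero, pow_zero, one_smul, RP_map_one hf]
    | succ k ih => rw [pow_succ, hf.2, ih, hz, smul_mul_smul_comm, pow_succ]
  have hzr : z ^ r = 1 := by
    have h1 := hpow r
    rw [h.hs.Zr', RP_map_one hf] at h1
    have h2 : (z ^ r - 1) • (1 : R K V) = 0 := by rw [sub_smul, ← h1, one_smul, sub_self]
    rcases smul_eq_zero.1 h2 with h3 | h3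
    · exact sub_eq_zero.1 h3
    · exact absurd h3 one_ne_zero
  obtain ⟨k, hk⟩ := h.hs.exists_ch (a := z⁻¹) (by rw [inv_pow, hzr, inv_one])
  have hσch : ∀ i, σ (Heis.ch r ω i) = Heis.ch r ω i := fun i => by
    show σ (ω ^ i.val) = ω ^ i.val
    rw [map_pow, hσω]
  have h1 : ∀ i, ∃ t : K, t ≠ 0 ∧ F (e i) = t • e (i + k) := by
    intro i
    have hne : F (e i) ≠ 0 := fun h0 => e.ne_zero i (F.injective (h0.trans hF0.symm))
    obtain ⟨k', t, hk', ht, hFt⟩ := h.hs.eigvec h.eZ hne (c := Heis.ch r ω (i + k)) (by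
      have h2 := hF (Z : R K V) (e i)
      rw [hz, LinearMap.smul_apply, h.eZ, hsm, hσch] at h2
      rw [h.ch_add, hk, mul_comm, mul_smul, ← h2, smul_smul, inv_mul_cancel₀ hz0, one_smul])
    have h3 := h.hs.ch_inj hk'
    exact ⟨t, ht, by rw [hFt, h3]⟩
  choose φ hφ0 hφ using h1
  exact ⟨σ, F, k, φ, hσ, hadd, hsm, hF, hφ0, hφ⟩

theorem exists_m (h : HF β r ω P Z e) (a b c d : ZMod r) : ∃ m : ZMod r, m ≠ a ∧ m ≠ b ∧ m ≠ c ∧ m ≠ d := by
  have := h.ne
  by_contra hcon
  push Not at hcon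
  have h4 : (Finset.univ : Finset (ZMod r)) ⊆ {a, b, c, d} := by
    intro m _
    simp only [Finset.mem_insert, Finset.mem_singleton]
    by_cases h1 : m = a
    · exact Or.inl h1
    by_cases h2 : m = b
    · exact Or.inr (Or.inl h2)
    by_cases h3 : m = c
    · exact Or.inr (Or.inr (Or.inl h3))
    · exact Or.inr (Or.inr (Or.inr (hcon m h1 h2 h3)))
  have h5 := (Finset.card_le_card h4).trans Finset.card_le_four
  rw [Finset.card_univ, ZMod.card] at h5
  have h6 := h.five
  omega

/-- condition `h3` -/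
theorem cond3 [Module.Finite K V] {S A : Subgroup (Equiv.Perm (R K V))} {r' a : ℕ} (h : HF β r ω P Z e)
    (hA : C6Data S A r' a) (hSb : S ≤ RB β) (hP : P ∈ Hat A) (hZ : Z ∈ Hat A) {α : K} (hα : α * β.τ α = -1)
    {c : K} (hc0 : c ≠ 0) (hc1 : 1 + c * β.B (e 0) (e 0) ≠ 0) (hc2 : 1 - c * β.B (e 0) (e 0) ≠ 0)
    (hN : Nil β (tw β c (wv e α)) (wv e α)) {f : Equiv.Perm (R K V)} (hf : f ∈ S) (hfc : ∀ a ∈ A, f * a = a * f)
    (hfx : cj K V (uN (tw β c (wv e α)) hN.sq) * f * (cj K V (uN (tw β c (wv e α)) hN.sq))⁻¹ ∈ S) :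
    f (tw β c (wv e α)) = tw β c (wv e α) := by
  have := h.ne
  have := nontrivial_of hA
  have hfP : f ∈ RP K V := (hSb hf).1
  have hα0 := h.alpha_ne hα
  obtain ⟨σ, F, k, φ, hσ, hadd, hsm, hF, hφ0, hφ⟩ := h.semi_basis hfP (hfc _ hP) (hfc _ hZ)
  set w := wv e α with hw
  set D := β.B (e 0) (e 0) with hD
  set N := tw β c w with hNdef
  have hD0 : D ≠ 0 := h.D_ne
  -- `T = f N`
  have hT0 : ∀ m : ZMod r, m - k ≠ ((0 : ℕ) : ZMod r) → m - k ≠ ((1 : ℕ) : ZMod r) → f N (e m) = 0 := by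
    intro m h0 h1
    have e1 := hF N (e (m - k))
    rw [hφ, sub_add_cancel, map_smul, hNdef, tw_apply, h.Bmw α h0 h1, mul_zero, zero_smul] at e1
    have e2 : F 0 = 0 := by
      have h1 := hadd 0 0
      rw [add_zero] at h1
      simpa using h1
    rw [e2] at e1
    exact (smul_eq_zero.1 e1).resolve_left (hφ0 _)
  set x := uN N hN.sq with hx
  set u : (R K V)ˣ := x * (fu hfP x)⁻¹ with hu
  have huv : ∀ v, (u : R K V) v = (v - f N v) + N (v - f N v) := by
    intro v
    have e1 : (((fu hfP x)⁻¹ : (R K V)ˣ) : R K V) = 1 - f N := by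
      have e2 : (((fu hfP x)⁻¹ : (R K V)ˣ) : R K V) = f ((x⁻¹ : (R K V)ˣ) : R K V) := rfl
      have e3 : ((x⁻¹ : (R K V)ˣ) : R K V) = 1 - N := rfl
      rw [e2, e3, RP_map_sub hfP, RP_map_one hfP]
    rw [hu, Units.val_mul, e1, hx, uN_val]
    rfl
  have hN0 : ∀ m : ZMod r, m ≠ ((0 : ℕ) : ZMod r) → m ≠ ((1 : ℕ) : ZMod r) → N (e m) = 0 := by
    intro m h0 h1
    rw [hNdef, tw_apply, h.Bmw α h0 h1, mul_zero, zero_smul]
  have hum : ∀ m : ZMod r, m ≠ ((0 : ℕ) : ZMod r) → m ≠ ((1 : ℕ) : ZMod r) → m - k ≠ ((0 : ℕ) : ZMod r) →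
      m - k ≠ ((1 : ℕ) : ZMod r) → (u : R K V) (e m) = e m := by
    intro m h0 h1 h2 h3
    rw [huv, hT0 m h2 h3, sub_zero, hN0 m h0 h1, add_zero]
  -- `u` normalizes `A`
  have huS : cj K V u ∈ S := cj_mem_of hfP hf hfx
  have hnorm : ∀ y ∈ Hat A, ∃ (ν : K) (i j : ℕ), ν ≠ 0 ∧
      (u : R K V) * y = (ν • ((P : R K V) ^ i * (Z : R K V) ^ j)) * u := by
    intro y hy
    have e1 : u * y * u⁻¹ ∈ Hat A := by
      rw [mem_Hat, map_mul, map_mul, map_inv]
      exact hA.2.2.2.2.2.2.2.2.2.1 _ huS _ hy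
    obtain ⟨ν, i, j, hν, e2⟩ := h.hat hA hP hZ e1
    refine ⟨ν, i, j, hν, ?_⟩
    rw [← e2, ← Units.val_mul, ← Units.val_mul, inv_mul_cancel_right]
  obtain ⟨ν, i, j, hν, huZ⟩ := hnorm Z hZ
  set Y : R K V := ν • ((P : R K V) ^ i * (Z : R K V) ^ j) with hY
  have hYm : ∀ m, Y (e m) = (ν * Heis.ch r ω m ^ j) • e (m + i) := by
    intro m
    rw [hY, LinearMap.smul_apply, h.PZ, smul_smul]
  have hUY : ∀ m, Heis.ch r ω m • (u : R K V) (e m) = Y ((u : R K V) (e m)) := by
    intro m
    have h1 := LinearMap.congr_fun huZ (e m)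
    rwa [Module.End.mul_apply, h.eZ, map_smul, Module.End.mul_apply] at h1
  have hi : ((i : ℕ) : ZMod r) = 0 := by
    obtain ⟨m, hm0, hm1, hm2, hm3⟩ := h.exists_m ((0 : ℕ) : ZMod r) ((1 : ℕ) : ZMod r) (((0 : ℕ) : ZMod r) + k)
      (((1 : ℕ) : ZMod r) + k)
    have h4 := hUY m
    rw [hum m hm0 hm1 (fun h0 => hm2 (by rw [← h0, sub_add_cancel])) (fun h0 => hm3 (by rw [← h0, sub_add_cancel])),
      hYm] at h4
    by_contra hi
    have h5 := congrArg (fun v => e.repr v m) h4
    have h6 : m + (i : ZMod r) ≠ m := by simpa using hi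
    simp only [map_smul, Basis.repr_self, Finsupp.smul_apply, Finsupp.single_eq_same,
      Finsupp.single_eq_of_ne (Ne.symm h6), smul_eq_mul, mul_one, mul_zero] at h5
    exact h.hs.ch_ne m h5
  have hYd : ∀ m, Y (e m) = (ν * Heis.ch r ω m ^ j) • e m := by
    intro m
    rw [hYm, hi, add_zero]
  have hmn : ∀ m n, e.repr ((u : R K V) (e m)) n ≠ 0 → Heis.ch r ω m = ν * Heis.ch r ω n ^ j := by
    intro m n hne
    have h4 := congrArg (fun v => e.repr v n) (hUY m)
    simp only [map_smul, Finsupp.smul_apply, smul_eq_mul] at h4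
    rw [h.hs.repr_D (d := fun m => ν * Heis.ch r ω m ^ j) hYd] at h4
    exact mul_right_cancel₀ hne h4
  have hsome : ∀ m, ∃ n, e.repr ((u : R K V) (e m)) n ≠ 0 := by
    intro m
    by_contra hcon
    push Not at hcon
    have h1 : (u : R K V) (e m) = 0 := e.repr.injective (by rw [map_zero]; exact Finsupp.ext hcon)
    exact e.ne_zero m (unit_inj u h1)
  have h01 : ((0 : ℕ) : ZMod r) ≠ ((1 : ℕ) : ZMod r) := h.cast_ne (by norm_num) (by norm_num) (by norm_num)
  -- the contradiction if `d₀ = d₁`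
  have hcontra : ν * Heis.ch r ω ((0 : ℕ) : ZMod r) ^ j = ν * Heis.ch r ω ((1 : ℕ) : ZMod r) ^ j → False := by
    intro h0
    have h1 := mul_left_cancel₀ hν h0
    rw [h.hs.ch_nat, h.hs.ch_nat, pow_zero, one_pow, pow_one] at h1
    have h2 : ∀ m, Heis.ch r ω m ^ j = 1 := fun m => by
      show (ω ^ m.val) ^ j = 1
      rw [← pow_mul, mul_comm, pow_mul, ← h1, one_pow]
    have h3 : ∀ m, Heis.ch r ω m = ν := by
      intro m
      obtain ⟨n, hn⟩ := hsome m
      rw [hmn m n hn, h2, mul_one]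
    exact h01 (h.hs.ch_inj ((h3 _).trans (h3 _).symm))
  have hNe0 : N (e ((0 : ℕ) : ZMod r)) = (c * D) • w := by rw [hNdef, tw_apply, h.B0w]
  have hNe1 : N (e ((1 : ℕ) : ZMod r)) = (c * (β.τ α * D)) • w := by rw [hNdef, tw_apply, h.B1w]
  have hk0 : k = 0 := by
    by_contra hk
    by_cases hk1 : ((0 : ℕ) : ZMod r) - k = ((1 : ℕ) : ZMod r)
    · -- `k = -1`
      have h12 : ((1 : ℕ) : ZMod r) - k = ((2 : ℕ) : ZMod r) := by
        have : ((1 : ℕ) : ZMod r) - k = (((0 : ℕ) : ZMod r) - k) + ((1 : ℕ) : ZMod r) := by push_cast; ring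
        rw [this, hk1]
        push_cast
        norm_num
      have hu1 : (u : R K V) (e ((1 : ℕ) : ZMod r)) = e ((1 : ℕ) : ZMod r) + (c * (β.τ α * D)) • w := by
        rw [huv, hT0 _ (by rw [h12]; exact h.cast_ne (by norm_num) (by norm_num) (by norm_num))
          (by rw [h12]; exact h.cast_ne (by norm_num) (by norm_num) (by norm_num)), sub_zero, hNe1]
      have h1 : e.repr ((u : R K V) (e ((1 : ℕ) : ZMod r))) ((0 : ℕ) : ZMod r) = c * (β.τ α * D) := by
        rw [hu1, map_add, map_smul, Basis.repr_self, Finsupp.add_apply, Finsupp.smul_apply, h.repr_wv0,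
          Finsupp.single_eq_of_ne h01, zero_add, smul_eq_mul, mul_one]
      have h2 : e.repr ((u : R K V) (e ((1 : ℕ) : ZMod r))) ((1 : ℕ) : ZMod r) = 1 - c * D := by
        rw [hu1, map_add, map_smul, Basis.repr_self, Finsupp.add_apply, Finsupp.smul_apply, h.repr_wv1,
          Finsupp.single_eq_same, smul_eq_mul]
        linear_combination (c * D) * hα
      have hτα : β.τ α ≠ 0 := by simpa using hα0
      have h3 := hmn _ _ (by rw [h1]; exact mul_ne_zero hc0 (mul_ne_zero hτα hD0))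
      have h4 := hmn _ _ (by rw [h2]; exact hc2)
      exact hcontra (h3.symm.trans h4)
    · have hu0 : (u : R K V) (e ((0 : ℕ) : ZMod r)) = e ((0 : ℕ) : ZMod r) + (c * D) • w := by
        rw [huv, hT0 _ (by rw [Nat.cast_zero, zero_sub]; simpa using hk) hk1, sub_zero, hNe0]
      have h1 : e.repr ((u : R K V) (e ((0 : ℕ) : ZMod r))) ((0 : ℕ) : ZMod r) = 1 + c * D := by
        rw [hu0, map_add, map_smul, Basis.repr_self, Finsupp.add_apply, Finsupp.smul_apply, h.repr_wv0,
          Finsupp.single_eq_same, smul_eq_mul, mul_one]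
      have h2 : e.repr ((u : R K V) (e ((0 : ℕ) : ZMod r))) ((1 : ℕ) : ZMod r) = c * D * α := by
        rw [hu0, map_add, map_smul, Basis.repr_self, Finsupp.add_apply, Finsupp.smul_apply, h.repr_wv1,
          Finsupp.single_eq_of_ne (Ne.symm h01), smul_eq_mul, zero_add]
      have h3 := hmn _ _ (by rw [h1]; exact hc1)
      have h4 := hmn _ _ (by rw [h2]; exact mul_ne_zero (mul_ne_zero hc0 hD0) hα0)
      exact hcontra (h3.symm.trans h4)
  -- `k = 0`
  have hum' : ∀ n : ℕ, 2 ≤ n → n < 5 → (u : R K V) (e (n : ZMod r)) = e (n : ZMod r) := by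
    intro n h2 h5
    have e0 : (n : ZMod r) ≠ ((0 : ℕ) : ZMod r) := h.cast_ne h5 (by norm_num) (by omega)
    have e1 : (n : ZMod r) ≠ ((1 : ℕ) : ZMod r) := h.cast_ne h5 (by norm_num) (by omega)
    exact hum _ e0 e1 (by rw [hk0, sub_zero]; exact e0) (by rw [hk0, sub_zero]; exact e1)
  have hself : ∀ n : ℕ, 2 ≤ n → n < 5 → ω ^ n = ν * (ω ^ n) ^ j := by
    intro n h2 h5
    have h1 := hmn (n : ZMod r) (n : ZMod r) (by
      rw [hum' n h2 h5, Basis.repr_self, Finsupp.single_eq_same]
      exact one_ne_zero)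
    rwa [h.hs.ch_nat] at h1
  have hω0 := h.hs.ω_ne
  have hj : ω ^ j = ω := by
    have h2 := hself 2 (by norm_num) (by norm_num)
    have h3 := hself 3 (by norm_num) (by norm_num)
    have h4 : ω ^ 2 * ω ^ j = ω ^ 2 * ω := by
      calc ω ^ 2 * ω ^ j = (ν * (ω ^ 2) ^ j) * ω ^ j := by rw [← h2]
        _ = ν * (ω ^ 3) ^ j := by
          rw [← pow_mul, ← pow_mul, mul_assoc, ← pow_add]
          congr 2
          ring
        _ = ω ^ 2 * ω := by rw [← h3]; ring
    exact mul_left_cancel₀ (pow_ne_zero _ hω0) h4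
  have hν1 : ν = 1 := by
    have h2 := hself 2 (by norm_num) (by norm_num)
    rw [← pow_mul, mul_comm 2 j, pow_mul, hj] at h2
    have h3 : (ν - 1) * ω ^ 2 = 0 := by linear_combination -h2
    rcases mul_eq_zero.1 h3 with h4 | h4
    · exact sub_eq_zero.1 h4
    · exact absurd h4 (pow_ne_zero _ hω0)
  have hdiag : ∀ m n, e.repr ((u : R K V) (e m)) n ≠ 0 → m = n := by
    intro m n hne
    have h1 := hmn m n hne
    rw [hν1, one_mul] at h1
    apply h.hs.ch_inj
    rw [h1]
    show (ω ^ n.val) ^ j = ω ^ n.val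
    rw [← pow_mul, mul_comm, pow_mul, hj]
  have hus : ∀ m, ∃ s : K, (u : R K V) (e m) = s • e m := by
    intro m
    refine ⟨e.repr ((u : R K V) (e m)) m, e.repr.injective (Finsupp.ext fun n => ?_)⟩
    rw [map_smul, Basis.repr_self, Finsupp.smul_apply, Finsupp.single_apply]
    by_cases hmn' : m = n
    · rw [if_pos hmn', ← hmn', smul_eq_mul, mul_one]
    · rw [if_neg hmn', smul_zero]
      by_contra h0
      exact hmn' (hdiag m n h0)
  choose s hs using hus
  obtain ⟨ν', i', j', hν', huP⟩ := hnorm P hP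
  have hUP : ∀ m, s (m + 1) • e (m + 1) = (ν' * s m * Heis.ch r ω m ^ j') • e (m + i') := by
    intro m
    have h1 := LinearMap.congr_fun huP (e m)
    rw [Module.End.mul_apply, h.eP, hs, Module.End.mul_apply, hs, map_smul, LinearMap.smul_apply, h.PZ, smul_smul,
      smul_smul] at h1
    rw [h1]
    congr 1
    ring
  have hi' : ((i' : ℕ) : ZMod r) = 1 := by
    have h1 := hUP ((2 : ℕ) : ZMod r)
    have h3 : s (((2 : ℕ) : ZMod r) + 1) = 1 := by
      have h4 := hs (((2 : ℕ) : ZMod r) + 1)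
      have h5 : ((2 : ℕ) : ZMod r) + 1 = ((3 : ℕ) : ZMod r) := by push_cast; norm_num
      rw [h5, hum' 3 (by norm_num) (by norm_num)] at h4
      rw [h5]
      have h6 : (s ((3 : ℕ) : ZMod r) - 1) • e ((3 : ℕ) : ZMod r) = 0 := by rw [sub_smul, ← h4, one_smul, sub_self]
      rcases smul_eq_zero.1 h6 with h7 | h7
      · exact sub_eq_zero.1 h7
      · exact absurd h7 (e.ne_zero _)
    rw [h3, one_smul] at h1
    by_contra hne
    have h4 := congrArg (fun v => e.repr v (((2 : ℕ) : ZMod r) + 1)) h1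
    have h5 : ((2 : ℕ) : ZMod r) + 1 ≠ ((2 : ℕ) : ZMod r) + (i' : ZMod r) := fun h0 => hne (add_left_cancel h0).symm
    simp only [map_smul, Basis.repr_self, Finsupp.smul_apply, Finsupp.single_eq_same,
      Finsupp.single_eq_of_ne h5, smul_eq_mul, mul_zero] at h4
    exact one_ne_zero h4
  have hss : ∀ m, s (m + 1) = ν' * s m * Heis.ch r ω m ^ j' := by
    intro m
    have h1 := hUP m
    rw [hi'] at h1
    exact smul_left_injective K (e.ne_zero (m + 1)) h1
  have hs1 : ∀ n : ℕ, 2 ≤ n → n < 5 → s (n : ZMod r) = 1 := by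
    intro n h2 h5
    have h4 := hs (n : ZMod r)
    rw [hum' n h2 h5] at h4
    have h6 : (s (n : ZMod r) - 1) • e (n : ZMod r) = 0 := by rw [sub_smul, ← h4, one_smul, sub_self]
    rcases smul_eq_zero.1 h6 with h7 | h7
    · exact sub_eq_zero.1 h7
    · exact absurd h7 (e.ne_zero _)
  have hA2 : 1 = ν' * (ω ^ 2) ^ j' := by
    have h1 := hss ((2 : ℕ) : ZMod r)
    have h5 : ((2 : ℕ) : ZMod r) + 1 = ((3 : ℕ) : ZMod r) := by push_cast; norm_num
    rwa [h5, hs1 3 (by norm_num) (by norm_num), hs1 2 (by norm_num) (by norm_num), h.hs.ch_nat, mul_one] at h1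
  have hA3 : 1 = ν' * (ω ^ 3) ^ j' := by
    have h1 := hss ((3 : ℕ) : ZMod r)
    have h5 : ((3 : ℕ) : ZMod r) + 1 = ((4 : ℕ) : ZMod r) := by push_cast; norm_num
    rwa [h5, hs1 4 (by norm_num) (by norm_num), hs1 3 (by norm_num) (by norm_num), h.hs.ch_nat, mul_one] at h1
  have hj' : ω ^ j' = 1 := by
    have h4 : (1 : K) * ω ^ j' = 1 := by
      calc (1 : K) * ω ^ j' = (ν' * (ω ^ 2) ^ j') * ω ^ j' := by rw [← hA2]
        _ = ν' * (ω ^ 3) ^ j' := by
          rw [← pow_mul, ← pow_mul, mul_assoc, ← pow_add]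
          congr 2
          ring
        _ = 1 := hA3.symm
    rwa [one_mul] at h4
  have hν'1 : ν' = 1 := by
    rw [← pow_mul, mul_comm 2 j', pow_mul, hj', one_pow, mul_one] at hA2
    exact hA2.symm
  have hss' : ∀ m, s (m + 1) = s m := by
    intro m
    rw [hss, hν'1, one_mul]
    have : Heis.ch r ω m ^ j' = 1 := by
      show (ω ^ m.val) ^ j' = 1
      rw [← pow_mul, mul_comm, pow_mul, hj', one_pow]
    rw [this, mul_one]
  have hsall : ∀ n : ℕ, s (n : ZMod r) = s ((0 : ℕ) : ZMod r) := by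
    intro n
    induction n with
    | zero => rfl
    | succ n ih => rw [Nat.cast_succ, hss', ih]
  have hsone : ∀ m, s m = 1 := by
    intro m
    have h1 := hsall m.val
    rw [ZMod.natCast_zmod_val] at h1
    rw [h1, ← hsall 2, hs1 2 (by norm_num) (by norm_num)]
  have hu1 : (u : R K V) = 1 := by
    refine e.ext fun m => ?_
    rw [hs, hsone, one_smul]
    rfl
  have hu2 : u = 1 := Units.ext hu1
  have hu3 : x = fu hfP x := by
    rw [hu] at hu2
    exact mul_inv_eq_one.1 hu2
  have hu4 : (x : R K V) = f (x : R K V) := congrArg Units.val hu3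
  rw [hx, uN_val, hfP.1, RP_map_one hfP] at hu4
  exact (add_left_cancel hu4).symm

end HF

end Cfsg.Agent.H563.FC
end

-- part: H563/FC/U8
section
/-!
# S5764: extraspecial type normalizers, unitary, `n = 8` (helper563)
-/

set_option autoImplicit false

namespace Cfsg.Agent.H563.FC

open Cfsg.Agent.H198.FC Cfsg.Agent.H277.FC Cfsg.Agent.H706.FC

universe u v

variable {K : Type u} [Field K] {V : Type v} [AddCommGroup V] [Module K V] {b : Cl K V}

/-- if `f (tw b 1 w)` is proportional to `tw b 1 w` then `w` is an eigenvector of the semilinear map -/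
theorem eig_of_tw {f : Equiv.Perm (R K V)} {g : Equiv.Perm V} {σ : K ≃+* K} (hadd : ∀ v w, g (v + w) = g v + g w)
    (hsm : ∀ (a : K) (v : V), g (a • v) = σ a • g v) (hg : ∀ (X : R K V) (v : V), f X (g v) = g (X v)) {w : V}
    (hw : w ≠ 0) {k : K} (hk : f (tw b 1 w) = k • tw b 1 w) : ∃ l : K, g w = l • w := by
  obtain ⟨v, hv⟩ := exists_right (b := b) hw
  have h1 := hg (tw b 1 w) v
  rw [hk, LinearMap.smul_apply, tw_apply, tw_apply, one_mul, one_mul, hsm, smul_smul] at h1
  have h2 : σ (b.B v w) ≠ 0 := by simpa using hv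
  refine ⟨(σ (b.B v w))⁻¹ * (k * b.B (g v) w), ?_⟩
  rw [mul_smul, h1, smul_smul, inv_mul_cancel₀ h2, one_smul]

section main

variable [Finite K] [Module.Finite K V] {S A : Subgroup (Equiv.Perm (R K V))}

/-- counting: a good isotropic vector, `r = 2`, `n = 2 m` -/
theorem exists_good (hU : b.IsU) {a m : ℕ} (h : C6Data S A 2 a) (h2 : (2 : K) ≠ 0) (hm : Module.finrank K V = 2 * m)
    (hm3 : 3 ≤ 2 * m)
    (hnum : ∀ q : ℕ, Nat.card (K0 b.τ) = q → 2 * (Nat.card A * q ^ (2 * m)) + Nat.card A * q ^ (2 * m) < q ^ (4 * m - 3)) :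
    ∃ w : V, w ≠ 0 ∧ b.B w w = 0 ∧ (∀ y ∈ Hat A, (∃ l : K, (y : R K V) w = l • w) → Scal y) ∧
      (∀ f ∈ RP K V, (∀ c ∈ A, f * c = c * f) → HasSig f b.τ → ∀ k : K, f (tw b 1 w) ≠ k • tw b 1 w) := by
  classical
  have := nontrivial_of h
  have hfinV : Finite V := Module.finite_of_finite K
  have hfinR := finite_R (K := K) (V := V)
  obtain ⟨ε, hε⟩ := hU.1
  obtain ⟨X, hX1, hX2, hX3⟩ := exists_family hU h2 (by omega)
  set q := Nat.card (K0 b.τ) with hq
  have hKq : Nat.card K = q ^ 2 := card_K b.invol hε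
  have hVq : Nat.card V = q ^ (4 * m) := by
    rw [Module.natCard_eq_pow_finrank (K := K), hKq, hm, ← pow_mul]
    congr 1
    ring
  have hq0 : 0 < q := Nat.card_pos
  have hXq : Nat.card X = q ^ (4 * m - 3) := by
    have h4 : Nat.card X * q ^ 4 = q ^ (4 * m - 3) * q ^ 4 := by
      rw [hKq, hVq, ← pow_mul] at hX3
      rw [hX3, ← pow_succ, ← pow_add]
      congr 1
      omega
    exact Nat.eq_of_mul_eq_mul_right (pow_pos hq0 4) h4
  by_contra hcon
  push Not at hcon
  -- lifts
  have hlift : ∀ f : A, ∃ x : (R K V)ˣ, cj K V x = f := fun f => h.2.2.2.2.1 f.2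
  choose s hs using hlift
  let C := {f : Equiv.Perm (R K V) // f ∈ RP K V ∧ HasSig f b.τ ∧ ∀ c ∈ A, f * c = c * f}
  have hsemi : ∀ f : C, ∃ g : Equiv.Perm V, (∀ v w, g (v + w) = g v + g w) ∧
      (∀ (a : K) (v : V), g (a • v) = b.τ a • g v) ∧ ∀ (X : R K V) (v : V), f.1 X (g v) = g (X v) :=
    fun f => f.2.2.1.semi f.2.1
  choose g hgadd hgsm hg using hsemi
  let B1 : {f : A // f ≠ 1} → Type _ := fun f => {w : V // w ≠ 0 ∧ ∃ l : K, ((s f.1 : (R K V)ˣ) : R K V) w = l • w}
  let B2 : C → Type _ := fun f => {w : V // w ∈ X ∧ ∃ l : K, g f w = l • w}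
  -- every element of `X` is bad
  have hbad : ∀ w : X, (∃ f : {f : A // f ≠ 1}, ∃ l : K, ((s f.1 : (R K V)ˣ) : R K V) (w : V) = l • (w : V)) ∨
      ∃ f : C, ∃ l : K, g f w = l • (w : V) := by
    intro w
    obtain ⟨hw0, hww⟩ := hX1 w w.2
    by_cases h1 : ∀ y ∈ Hat A, (∃ l : K, (y : R K V) (w : V) = l • (w : V)) → Scal y
    · right
      obtain ⟨f, hf, hfc, hfs, k, hk⟩ := hcon w hw0 hww h1
      exact ⟨⟨f, hf, hfs, hfc⟩, eig_of_tw (hgadd _) (hgsm _) (hg ⟨f, hf, hfs, hfc⟩) hw0 hk⟩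
    · left
      push Not at h1
      obtain ⟨y, hy, ⟨l, hl⟩, hns⟩ := h1
      refine ⟨⟨⟨cj K V y, hy⟩, fun h1 => hns (scal_of_cj (congrArg Subtype.val h1))⟩, ?_⟩
      obtain ⟨c, hc0, hc⟩ := cj_eq (hs ⟨cj K V y, hy⟩)
      exact ⟨c * l, by rw [hc, LinearMap.smul_apply, hl, smul_smul]⟩
  let Φ : X → (Σ f : {f : A // f ≠ 1}, B1 f) ⊕ (Σ f : C, B2 f) := fun w =>
    if h : ∃ f : {f : A // f ≠ 1}, ∃ l : K, ((s f.1 : (R K V)ˣ) : R K V) (w : V) = l • (w : V)
    then Sum.inl ⟨h.choose, ⟨w, (hX1 w w.2).1, h.choose_spec⟩⟩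
    else Sum.inr ⟨((hbad w).resolve_left h).choose, ⟨w, w.2, ((hbad w).resolve_left h).choose_spec⟩⟩
  let Ψ : (Σ f : {f : A // f ≠ 1}, B1 f) ⊕ (Σ f : C, B2 f) → V := Sum.elim (fun p => (p.2 : V)) fun p => (p.2 : V)
  have hΨ : ∀ w, Ψ (Φ w) = w := by
    intro w
    simp only [Φ]
    split_ifs with h1
    · rfl
    · rfl
  have hinj : Function.Injective Φ := fun w w' hww => Subtype.ext (by rw [← hΨ w, ← hΨ w', hww])
  have hfinA : Finite A := Nat.finite_of_card_ne_zero (by
    rw [h.2.2.2.2.2.1]; exact pow_ne_zero _ h.1.ne_zero)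
  have := Fintype.ofFinite {f : A // f ≠ 1}
  have hCfin : Finite C := inferInstance
  have := Fintype.ofFinite C
  have h4 := Nat.card_le_card_of_injective Φ hinj
  rw [Nat.card_sum, Nat.card_sigma, Nat.card_sigma] at h4
  have hB1 : ∑ f, Nat.card (B1 f) ≤ 2 * (Nat.card A * q ^ (2 * m)) := by
    have h5 : ∀ f : {f : A // f ≠ 1}, Nat.card (B1 f) ≤ 2 * q ^ (2 * m) := by
      intro f
      have hmem : s f.1 ∈ Hat A := by rw [mem_Hat, hs]; exact f.1.2
      have hns : ¬ Scal (s f.1) := fun h6 => f.2 (Subtype.ext (by rw [← hs]; exact cj_of_scal h6))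
      obtain ⟨c, hc⟩ := pow_scal h hmem
      rw [Units.val_pow_eq_pow_val, pow_two] at hc
      have h6 := card_eig_le (s f.1 : R K V) hc (k := m) (fun l => by
        have := eig_le h hmem hns l
        omega)
      rw [hKq, ← pow_mul] at h6
      exact h6
    refine (Finset.sum_le_card_nsmul _ _ _ fun f _ => h5 f).trans ?_
    rw [Finset.card_univ, smul_eq_mul, ← Nat.card_eq_fintype_card]
    have h6 : Nat.card {f : A // f ≠ 1} ≤ Nat.card A := Nat.card_le_card_of_injective _ Subtype.val_injective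
    calc _ ≤ Nat.card A * (2 * q ^ (2 * m)) := Nat.mul_le_mul_right _ h6
      _ = _ := by ring
  have hB2 : ∑ f, Nat.card (B2 f) ≤ Nat.card A * q ^ (2 * m) := by
    have h5 : ∀ f : C, Nat.card (B2 f) ≤ q ^ (2 * m) := by
      intro f
      refine card_pts_le (hgadd f) (hgsm f) hε (fun w hw => (hX1 w hw).1) hX2 (le_of_eq ?_)
      rw [hVq, ← pow_add]
      congr 1
      ring
    refine (Finset.sum_le_card_nsmul _ _ _ fun f _ => h5 f).trans ?_
    rw [Finset.card_univ, smul_eq_mul, ← Nat.card_eq_fintype_card]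
    exact Nat.mul_le_mul_right _ (card_sig_le h b.τ)
  have h7 := hnum q rfl
  omega

omit [Finite K] [Module.Finite K V] in
theorem two_ne_zero_of {a : ℕ} (h : C6Data S A 2 a) : (2 : K) ≠ 0 := by
  have := nontrivial_of h
  obtain ⟨f, hf, hf1⟩ : ∃ f ∈ A, f ≠ 1 := by
    by_contra hcon
    push Not at hcon
    have h1 : A = ⊥ := by
      rw [eq_bot_iff]
      intro f hf
      exact Subgroup.mem_bot.2 (hcon f hf)
    have h2 := h.2.2.2.2.2.1
    rw [h1, Subgroup.card_bot] at h2
    have h3 : 1 < 2 ^ (2 * a) := Nat.one_lt_pow (by have := h.2.1; omega) (by norm_num)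
    omega
  obtain ⟨x, rfl⟩ := h.2.2.2.2.1 hf
  obtain ⟨y, hy, c, hc1, hc2, -⟩ := exists_conj h (x := x) hf fun hs => hf1 (cj_of_scal hs)
  intro h2
  apply hc1
  have h3 : (c - 1) * (c - 1) = 0 := by
    have : (c - 1) * (c - 1) = c ^ 2 - 2 * c + 1 := by ring
    rw [this, hc2, h2]
    have h4 : (1 : K) + 1 = 0 := by rw [one_add_one_eq_two, h2]
    rw [zero_mul, sub_zero, h4]
  exact sub_eq_zero.1 (mul_self_eq_zero.1 h3)

omit [Module.Finite K V] in
theorem three_le_card (h2 : (2 : K) ≠ 0) : 3 ≤ Nat.card (K0 b.τ) := by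
  have hinj : Function.Injective (![(0 : K0 b.τ), 1, 2] : Fin 3 → K0 b.τ) := by
    have h2' : (2 : K0 b.τ) ≠ 0 := fun h => h2 (by
      have := congrArg Subtype.val h
      push_cast at this
      exact this)
    have h1 : (1 : K0 b.τ) ≠ 0 := one_ne_zero
    have h12 : (2 : K0 b.τ) ≠ 1 := by
      intro h
      apply h1
      have h3 : (1 : K0 b.τ) + 1 = 1 := by rw [one_add_one_eq_two]; exact h
      exact left_eq_add.1 h3.symm
    intro i j hij
    fin_cases i <;> fin_cases j <;> first | rfl | (exfalso; revert hij; simp [h1, h2', h12, h1.symm, h2'.symm, h12.symm])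
  have h3 := Nat.card_le_card_of_injective _ hinj
  rwa [Nat.card_eq_fintype_card, Fintype.card_fin] at h3

end main

/-- **unitary, `n = 8`** -/
theorem stmtBC6_U8 : Cfsg.Agent.H786.FC.StmtBC6On.{u, v} true fun n => n = 8 := by
  intro K _ _ V _ _ _ b hk hb hn S hSb hsol A r a h
  have hU := hk.1 rfl
  have hr : r = 2 := by
    have h1 := h.2.2.1
    have hn' : Module.finrank K V = 8 := hn
    rw [hn'] at h1
    have h2 : (2 : ℕ) ∣ r ^ a := by rw [← h1]; norm_num
    exact ((Nat.prime_dvd_prime_iff_eq Nat.prime_two h.1).1 (Nat.prime_two.dvd_of_dvd_pow h2)).symm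
  subst hr
  have ha : a = 3 := by
    have h1 := h.2.2.1
    have hn' : Module.finrank K V = 8 := hn
    rw [hn'] at h1
    exact (Nat.pow_right_injective (le_refl 2) (show 2 ^ 3 = 2 ^ a by rw [← h1])).symm
  subst ha
  have h2 := two_ne_zero_of h
  have hn' : Module.finrank K V = 8 := hn
  have hA : Nat.card A = 64 := by rw [h.2.2.2.2.2.1]; norm_num
  obtain ⟨w, hw, hww, h1, h4⟩ := exists_good (b := b) hU h h2 (m := 4) hn' (by norm_num) (by
    intro q hq
    have hq3 : 3 ≤ q := by rw [← hq]; exact three_le_card h2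
    rw [hA]
    have e1 : q ^ (4 * 4 - 3) = q ^ 8 * q ^ 5 := by rw [← pow_add]
    have e2 : 243 ≤ q ^ 5 := by
      calc 243 = 3 ^ 5 := by norm_num
        _ ≤ q ^ 5 := Nat.pow_le_pow_left hq3 5
    have e3 : 0 < q ^ 8 := pow_pos (by omega) 8
    rw [e1]
    have e4 : q ^ 8 * 243 ≤ q ^ 8 * q ^ 5 := Nat.mul_le_mul_left _ e2
    have e5 : q ^ (2 * 4) = q ^ 8 := by norm_num
    rw [e5]
    omega)
  have hSP : S ≤ RP K V := fun f hf => (hSb hf).1
  refine five_of_good hSb h hsol hw hww h1 (fun f hf hfc hs _ => h4 f (hSP hf) hfc hs) fun c hN f hf hfc hfx => ?_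
  refine fixN hn' h.2.2.2.2.2.2.2.2.1 h.2.2.2.2.2.2.2.1 h.2.2.2.2.2.2.1 hN (fun y hy hl => h1 y hy hl) (hSb hf)
    fun a ha => ?_
  exact h.2.2.2.2.2.2.2.2.2.1 _ (cj_mem_of _ hf hfx) a ha

end Cfsg.Agent.H563.FC
end

-- part: H563/FC/U58
section
/-!
# S5764: `StmtBC6` unitary, `n` prime `≥ 5`, and task 5395 (helper563)
-/

set_option autoImplicit false

namespace Cfsg.Agent.H563.FC

open Module Cfsg.Agent.H198.FC Cfsg.Agent.H277.FC Cfsg.Agent.H706.FC
open Cfsg.Agent.H710.FC (Heis)

universe u v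

/-- **unitary, `n ≥ 5` prime** -/
theorem stmtBC6_Uprime : Cfsg.Agent.H786.FC.StmtBC6On.{u, v} true fun n => n.Prime ∧ 5 ≤ n := by
  intro K _ _ V _ _ _ β hk hb hn S hSb hsol A r a hA
  have hU := hk.1 rfl
  have hn1 : (finrank K V).Prime := hn.1
  have hn5 : 5 ≤ finrank K V := hn.2
  have := nontrivial_of hA
  have hSP : S ≤ RP K V := fun f hf => (hSb hf).1
  obtain ⟨ω, P, Z, hP, hZ, hs⟩ := Cfsg.Agent.H710.FC.exists_heis (hSP.trans RP_le_RA) hA hn1 (by omega)
  have hr5 : 5 ≤ r := by rw [← hs.rank]; exact hn5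
  obtain ⟨e, h⟩ := exists_HF (β := β) hs hr5 hU (hSb (hA.2.2.2.1 hP)) (hSb (hA.2.2.2.1 hZ))
  obtain ⟨ε, hε⟩ := hU.1
  obtain ⟨α, hα⟩ := exists_norm_neg_one β.invol hε
  -- `|K₀| ≥ 4`
  have hq4 : 4 ≤ Nat.card (K0 β.τ) := by
    have hKq : Nat.card K = Nat.card (K0 β.τ) ^ 2 := card_K β.invol hε
    have h1 : orderOf (Units.mk0 ω hs.ω_ne) = r := by
      rw [← orderOf_units, Units.val_mk0]
      exact hs.prim.eq_orderOf.symm
    have h2 : r ∣ Nat.card K - 1 := by
      rw [← h1, ← Nat.card_units]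
      exact orderOf_dvd_natCard _
    have h3 : 2 ≤ Nat.card (K0 β.τ) := Finite.one_lt_card
    by_contra hcon
    have h4 : Nat.card (K0 β.τ) = 2 ∨ Nat.card (K0 β.τ) = 3 := by omega
    rcases h4 with h4 | h4
    · rw [hKq, h4] at h2
      have := Nat.le_of_dvd (by norm_num) h2
      omega
    · rw [hKq, h4] at h2
      have h5 : r ≤ 8 := Nat.le_of_dvd (by norm_num) h2
      have h6 : r ∣ 8 := h2
      interval_cases r
      · omega
      · omega
      · omega
      · exact absurd hs.hr (by norm_num)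
  have hD0 := h.D_ne
  set D := β.B (e 0) (e 0) with hD
  have hDτ : β.τ D = D := h.D_fix
  refine five_of_good' hSb hA hsol (h.wv_ne α) (h.wv_iso hα) (fun y hy ⟨l, hl⟩ => h.cond1 hA hP hZ hα hy hl)
    (fun f hf hfc hτ _ => ?_) D⁻¹ (Or.inr hq4) (fun c hN hcb f hf hfc hfx => ?_)
  · exact absurd (h.sig_om (hSP hf) (hfc _ hP) (hfc _ hZ) hτ) h.tau_ne
  · -- `c` is skew
    have hc0 : c ≠ 0 := by
      rintro rfl
      apply hN.ne_zero
      ext v
      rw [tw_apply, zero_mul, zero_smul]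
      rfl
    have hcτ : β.τ c = -c := by
      have h1 := hN.adj (e ((0 : ℕ) : ZMod r)) (e ((0 : ℕ) : ZMod r))
      have h2 : β.B (HF.wv e α) (e ((0 : ℕ) : ZMod r)) = D := by
        rw [hU.2 (e ((0 : ℕ) : ZMod r)) (HF.wv e α), h.B0w, h.D_fix]
      rw [tw_apply, LinearMap.neg_apply, B_neg_right, tw_apply, β.smul_left, β.smul_right, h.B0w, h2, map_mul,
        h.D_fix, ← hD] at h1
      have h3 : (β.τ c + c) * (D * D) = 0 := by linear_combination h1
      rcases mul_eq_zero.1 h3 with h4 | h4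
      · exact eq_neg_of_add_eq_zero_left h4
      · exact absurd h4 (mul_ne_zero hD0 hD0)
    have hcD : β.τ (c * D) = -(c * D) := by rw [map_mul, hcτ, hDτ]; ring
    have hc2 : 1 - c * D ≠ 0 := by
      intro h0
      apply hcb
      exact eq_inv_of_mul_eq_one_left (sub_eq_zero.1 h0).symm
    have hc1 : 1 + c * D ≠ 0 := by
      intro h0
      have h1 : c * D = -1 := by linear_combination h0
      have h2 := hcD
      rw [h1, map_neg, map_one, neg_neg] at h2
      apply hc2
      rw [h1, h2]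
      ring
    exact h.cond3 hA hSb hP hZ hα hc0 hc1 hc2 hN hf hfc hfx

/-- task 5395 -/
theorem stmtBC6_U58 : Cfsg.Agent.H786.FC.StmtBC6On.{u, v} true fun n => n = 5 ∨ n = 8 := by
  intro K _ _ V _ _ _ β hk hb hn
  rcases hn with h | h
  · exact stmtBC6_Uprime K V β hk hb ⟨by rw [h]; norm_num, by omega⟩
  · exact stmtBC6_U8 K V β hk hb h

theorem stmtBC6_U7 : Cfsg.Agent.H786.FC.StmtBC6On.{u, v} true fun n => n = 7 := by
  intro K _ _ V _ _ _ β hk hb hn
  have hn' : finrank K V = 7 := hn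
  exact stmtBC6_Uprime K V β hk hb ⟨by rw [hn']; norm_num, by omega⟩

end Cfsg.Agent.H563.FC
end
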